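import Mathlib

/-!
# Generation by conjugates of an automorphism: abstract part (helper915), S4327

`Γ` a group, `a : MulAut Γ`.

* `Gn a f` : the group generated by the conjugates of `a` under `f i`, `i : Fin k`;
* `Reach a k J` : some `k` conjugates of `a` generate a group containing the inner automorphisms of `J`;
* `Reach₁ a s J` : the same for `a` itself and `s` further conjugates;
* `Reach.conj`, `Reach.step`, `Reach.root`, `Reach₁.comm`, `Reach₁.inv`, `Reach₁.root` ;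
* `Reach.transfer` : to a quotient `L` of `Γ`;
* `Reach.top` : `Reach x k ⊤` gives the equation of `S4327`;
* `Reach.card` : `r ∣ |J|` gives `r ∣ |closure|`.
-/

set_option autoImplicit false

namespace Cfsg.Agent.H915.Gs

open Subgroup

section

variable {Γ : Type*} [Group Γ]

/-- the group generated by the conjugates of `a` under `f i` -/
def Gn (a : MulAut Γ) {k : ℕ} (f : Fin k → Γ) : Subgroup (MulAut Γ) :=
  closure (Set.range fun i => MulAut.conj (f i) * a * (MulAut.conj (f i))⁻¹)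

/-- some `k` conjugates of `a` generate a group containing the inner automorphisms of `J` -/
def Reach (a : MulAut Γ) (k : ℕ) (J : Subgroup Γ) : Prop :=
  ∃ f : Fin k → Γ, J.map (MulAut.conj : Γ →* MulAut Γ) ≤ Gn a f

/-- `a` and `s` further conjugates of `a` generate a group containing the inner automorphisms of `J` -/
def Reach₁ (a : MulAut Γ) (s : ℕ) (J : Subgroup Γ) : Prop :=
  ∃ f : Fin s → Γ, J.map (MulAut.conj : Γ →* MulAut Γ) ≤ zpowers a ⊔ Gn a f

/-- conjugate subgroup -/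
abbrev cj (g : Γ) (J : Subgroup Γ) : Subgroup Γ := J.map (MulAut.conj g).toMonoidHom

/-- image under an automorphism -/
abbrev im (a : MulAut Γ) (J : Subgroup Γ) : Subgroup Γ := J.map a.toMonoidHom

theorem mem_Gn (a : MulAut Γ) {k : ℕ} (f : Fin k → Γ) (i : Fin k) :
    MulAut.conj (f i) * a * (MulAut.conj (f i))⁻¹ ∈ Gn a f := Subgroup.subset_closure ⟨i, rfl⟩

theorem conj_apply_mul (a : MulAut Γ) (g : Γ) : a * MulAut.conj g * a⁻¹ = MulAut.conj (a g) := by
  ext x
  simp [MulAut.mul_apply, MulAut.conj_apply]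

theorem conj_inv_apply_mul (a : MulAut Γ) (g : Γ) : a⁻¹ * MulAut.conj g * a = MulAut.conj (a⁻¹ g) := by
  have := conj_apply_mul a⁻¹ g
  rwa [inv_inv] at this

theorem Gn_mul (a : MulAut Γ) {k : ℕ} (f : Fin k → Γ) (g : Γ) :
    Gn a (fun i => g * f i) = (Gn a f).map (MulAut.conj (MulAut.conj g)).toMonoidHom := by
  unfold Gn
  rw [MonoidHom.map_closure]
  congr 1
  ext y
  constructor
  · rintro ⟨i, rfl⟩
    refine ⟨_, ⟨i, rfl⟩, ?_⟩
    simp only [MulEquiv.coe_toMonoidHom, MulAut.conj_apply, map_mul, mul_inv_rev]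
    group
  · rintro ⟨_, ⟨i, rfl⟩, rfl⟩
    refine ⟨i, ?_⟩
    simp only [MulEquiv.coe_toMonoidHom, MulAut.conj_apply, map_mul, mul_inv_rev]
    group

theorem map_conj_cj (g : Γ) (J : Subgroup Γ) :
    (cj g J).map (MulAut.conj : Γ →* MulAut Γ) =
      (J.map (MulAut.conj : Γ →* MulAut Γ)).map (MulAut.conj (MulAut.conj g)).toMonoidHom := by
  rw [Subgroup.map_map, Subgroup.map_map]
  congr 1
  ext1 x
  simp only [MonoidHom.comp_apply, MulEquiv.coe_toMonoidHom, MulAut.conj_apply, map_mul, map_inv]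

theorem map_conj_im (a : MulAut Γ) (J : Subgroup Γ) :
    (im a J).map (MulAut.conj : Γ →* MulAut Γ) =
      (J.map (MulAut.conj : Γ →* MulAut Γ)).map (MulAut.conj a).toMonoidHom := by
  rw [Subgroup.map_map, Subgroup.map_map]
  congr 1
  ext1 x
  simp only [MonoidHom.comp_apply, MulEquiv.coe_toMonoidHom, MulAut.conj_apply]
  rw [conj_apply_mul]

variable {a : MulAut Γ} {k s : ℕ} {J J' : Subgroup Γ}

theorem Reach.sub (h : Reach a k J) (hJ : J' ≤ J) : Reach a k J' := by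
  obtain ⟨f, hf⟩ := h
  exact ⟨f, (Subgroup.map_mono hJ).trans hf⟩

theorem Reach₁.sub (h : Reach₁ a s J) (hJ : J' ≤ J) : Reach₁ a s J' := by
  obtain ⟨f, hf⟩ := h
  exact ⟨f, (Subgroup.map_mono hJ).trans hf⟩

/-- **conjugation** -/
theorem Reach.conj (h : Reach a k J) (g : Γ) : Reach a k (cj g J) := by
  obtain ⟨f, hf⟩ := h
  refine ⟨fun i => g * f i, ?_⟩
  rw [map_conj_cj, Gn_mul]
  exact Subgroup.map_mono hf

theorem cj_cj (g h : Γ) (J : Subgroup Γ) : cj g (cj h J) = cj (g * h) J := by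
  rw [cj, cj, Subgroup.map_map]
  congr 1
  ext1 x
  simp [MulAut.conj_apply, mul_assoc]

theorem cj_one (J : Subgroup Γ) : cj 1 J = J := by
  rw [cj, map_one]
  exact Subgroup.map_id J

theorem cj_inv_cj (g : Γ) (J : Subgroup Γ) : cj g⁻¹ (cj g J) = J := by rw [cj_cj, inv_mul_cancel, cj_one]

theorem cj_cj_inv (g : Γ) (J : Subgroup Γ) : cj g (cj g⁻¹ J) = J := by rw [cj_cj, mul_inv_cancel, cj_one]

theorem Reach.of_conj {g : Γ} (h : Reach a k (cj g J)) : Reach a k J := by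
  have := h.conj g⁻¹
  rwa [cj_inv_cj] at this

/-- `a` and `s` further conjugates are `s + 1` conjugates -/
theorem Reach₁.reach (h : Reach₁ a s J) : Reach a (s + 1) J := by
  obtain ⟨f, hf⟩ := h
  refine ⟨Fin.cons 1 f, hf.trans (sup_le ?_ ?_)⟩
  · rw [zpowers_le]
    have := mem_Gn a (Fin.cons 1 f : Fin (s + 1) → Γ) 0
    simpa using this
  · rw [Gn, closure_le]
    rintro _ ⟨i, rfl⟩
    have := mem_Gn a (Fin.cons 1 f : Fin (s + 1) → Γ) i.succ
    rwa [Fin.cons_succ] at this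

/-- conversely, up to conjugation -/
theorem Reach.reach₁ (h : Reach a (s + 1) J) : ∃ g : Γ, Reach₁ a s (cj g J) := by
  obtain ⟨f, hf⟩ := h
  refine ⟨(f 0)⁻¹, fun i => (f 0)⁻¹ * f i.succ, ?_⟩
  rw [map_conj_cj]
  refine (Subgroup.map_mono hf).trans ?_
  rw [← Gn_mul]
  unfold Gn
  rw [closure_le]
  rintro _ ⟨i, rfl⟩
  refine Fin.cases ?_ (fun j => ?_) i
  · apply mem_sup_left
    have h1 : MulAut.conj ((f 0)⁻¹ * f 0) * a * (MulAut.conj ((f 0)⁻¹ * f 0))⁻¹ = a := by
      rw [inv_mul_cancel, map_one, one_mul, inv_one, mul_one]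
    dsimp only
    rw [h1]
    exact mem_zpowers a
  · exact mem_sup_right (Subgroup.subset_closure ⟨j, rfl⟩)

/-- more conjugates -/
theorem Reach.mono (h : Reach a k J) {k' : ℕ} (hk : 1 ≤ k) (hkk : k ≤ k') : Reach a k' J := by
  obtain ⟨f, hf⟩ := h
  refine ⟨fun i => if h : (i : ℕ) < k then f ⟨i, h⟩ else f ⟨0, hk⟩, hf.trans ?_⟩
  unfold Gn
  rw [closure_le]
  rintro _ ⟨i, rfl⟩
  apply Subgroup.subset_closure
  refine ⟨⟨i, i.2.trans_le hkk⟩, ?_⟩
  simp [i.2]

theorem Reach₁.mono (h : Reach₁ a s J) {s' : ℕ} (hs : s ≤ s') : Reach₁ a s' J := by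
  obtain ⟨f, hf⟩ := h
  refine ⟨fun i => if h : (i : ℕ) < s then f ⟨i, h⟩ else 1, hf.trans (sup_le_sup_left ?_ _)⟩
  unfold Gn
  rw [closure_le]
  rintro _ ⟨i, rfl⟩
  apply Subgroup.subset_closure
  refine ⟨⟨i, i.2.trans_le hs⟩, ?_⟩
  simp [i.2]

/-- the group reached may be taken invariant under `a` -/
theorem Reach₁.im (h : Reach₁ a s J) : Reach₁ a s (J ⊔ im a J) := by
  obtain ⟨f, hf⟩ := h
  refine ⟨f, ?_⟩
  rw [Subgroup.map_sup, map_conj_im]
  refine sup_le hf ?_
  rintro _ ⟨y, hy, rfl⟩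
  have ha : a ∈ zpowers a ⊔ Gn a f := mem_sup_left (mem_zpowers a)
  exact mul_mem (mul_mem ha (hf hy)) (inv_mem ha)

theorem Reach₁.im_pow (h : Reach₁ a s J) (j : ℕ) : Reach₁ a s (J ⊔ Gs.im (a ^ j) J) := by
  obtain ⟨f, hf⟩ := h
  refine ⟨f, ?_⟩
  rw [Subgroup.map_sup, map_conj_im]
  refine sup_le hf ?_
  rintro _ ⟨y, hy, rfl⟩
  have ha : a ^ j ∈ zpowers a ⊔ Gn a f := mem_sup_left (npow_mem_zpowers a j)
  exact mul_mem (mul_mem ha (hf hy)) (inv_mem ha)

theorem Reach₁.sup {J₁ J₂ : Subgroup Γ} {f : Fin s → Γ}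
    (h1 : J₁.map (MulAut.conj : Γ →* MulAut Γ) ≤ zpowers a ⊔ Gn a f)
    (h2 : J₂.map (MulAut.conj : Γ →* MulAut Γ) ≤ zpowers a ⊔ Gn a f) : Reach₁ a s (J₁ ⊔ J₂) :=
  ⟨f, by rw [Subgroup.map_sup]; exact sup_le h1 h2⟩

/-- one more conjugate: `J ⊔ a J` -/
theorem Reach.step (h : Reach a k J) (g : Γ) : Reach₁ a k (cj g J ⊔ im a (cj g J)) := by
  obtain ⟨f, hf⟩ := h.conj g
  exact Reach₁.im ⟨f, hf.trans le_sup_right⟩

/-- **one more conjugate of `a`, for a group `J₀` conjugate to a subgroup of the group reached** -/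
theorem Reach.grow (h : Reach a k J) {J₀ : Subgroup Γ} {g : Γ} (hJ : cj g J₀ ≤ J) :
    Reach a (k + 1) (J ⊔ cj g (im a J₀)) := by
  have h1 := (h.step g⁻¹).reach.conj g
  refine h1.sub (sup_le ?_ ?_)
  · rw [cj, Subgroup.map_sup]
    exact le_sup_of_le_left (by rw [← cj, cj_cj_inv])
  · rw [cj, cj, Subgroup.map_sup]
    refine le_sup_of_le_right (Subgroup.map_mono (Subgroup.map_mono ?_))
    rw [← cj_inv_cj g J₀]
    exact Subgroup.map_mono hJ

/-- the elements `u · a(u)⁻¹` -/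
theorem Reach₁.comm (a : MulAut Γ) {s : ℕ} (u : Fin s → Γ) :
    Reach₁ a s (closure (Set.range fun i => u i * (a (u i))⁻¹)) := by
  refine ⟨u, ?_⟩
  rw [MonoidHom.map_closure, closure_le]
  rintro _ ⟨_, ⟨i, rfl⟩, rfl⟩
  have h1 : (MulAut.conj (u i * (a (u i))⁻¹) : MulAut Γ) = MulAut.conj (u i) * a * (MulAut.conj (u i))⁻¹ * a⁻¹ := by
    rw [map_mul, map_inv, ← conj_apply_mul]
    group
  change MulAut.conj (u i * (a (u i))⁻¹) ∈ _
  rw [h1]
  exact mul_mem (mem_sup_right (mem_Gn a u i)) (inv_mem (mem_sup_left (mem_zpowers a)))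

/-- the elements `u · a(u)⁻¹` together with a group already reached (with the conjugates fixed) -/
theorem Reach₁.add (h : Reach₁ a s J) (u : Γ) : Reach₁ a (s + 1) (J ⊔ zpowers (u * (a u)⁻¹)) := by
  obtain ⟨f, hf⟩ := h
  refine ⟨Fin.cons u f, ?_⟩
  have h0 : zpowers a ⊔ Gn a f ≤ zpowers a ⊔ Gn a (Fin.cons u f : Fin (s + 1) → Γ) := by
    refine sup_le_sup_left ?_ _
    unfold Gn
    rw [closure_le]
    rintro _ ⟨i, rfl⟩
    exact Subgroup.subset_closure ⟨i.succ, by simp⟩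
  rw [Subgroup.map_sup]
  refine sup_le (hf.trans h0) ?_
  rw [MonoidHom.map_zpowers, zpowers_le]
  have h1 : (MulAut.conj (u * (a u)⁻¹) : MulAut Γ) = MulAut.conj u * a * (MulAut.conj u)⁻¹ * a⁻¹ := by
    rw [map_mul, map_inv, ← conj_apply_mul]
    group
  rw [h1]
  refine mul_mem (mem_sup_right ?_) (inv_mem (mem_sup_left (mem_zpowers a)))
  have := mem_Gn a (Fin.cons u f : Fin (s + 1) → Γ) 0
  simpa using this

/-- `Reach` depends only on the coset of the inner automorphisms and on conjugacy -/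
theorem Reach.of_mul_conj {b : MulAut Γ} (h : Reach (b * a * b⁻¹) k J) : Reach a k (im b⁻¹ J) := by
  obtain ⟨f, hf⟩ := h
  refine ⟨fun i => b⁻¹ (f i), ?_⟩
  rw [map_conj_im]
  refine (Subgroup.map_mono hf).trans ?_
  unfold Gn
  rw [MonoidHom.map_closure, closure_le]
  rintro _ ⟨_, ⟨i, rfl⟩, rfl⟩
  apply Subgroup.subset_closure
  refine ⟨i, ?_⟩
  simp only [MulEquiv.coe_toMonoidHom, MulAut.conj_apply]
  rw [← conj_apply_mul]
  group

end

/-! ### Transfer to a quotient -/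

section

variable {Γ L : Type*} [Group Γ] [Group L] {π : Γ →* L} {a : MulAut Γ} {x : MulAut L}

theorem transfer_aux (hx : ∀ g, π (a g) = x (π g)) {k : ℕ} (f : Fin k → Γ)
    {β : MulAut Γ} (hβ : β ∈ Gn a f) :
    ∃ β' ∈ Gn x (fun i => π (f i)), (∀ g, π (β g) = β' (π g)) ∧ ∀ g, π (β⁻¹ g) = β'⁻¹ (π g) := by
  have hinv : ∀ g, π (a⁻¹ g) = x⁻¹ (π g) := by
    intro g
    apply x.injective
    rw [← hx, MulAut.apply_inv_self, MulAut.apply_inv_self]
  induction hβ using closure_induction with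
  | mem y hy =>
    obtain ⟨i, rfl⟩ := hy
    refine ⟨_, mem_Gn x _ i, fun g => ?_, fun g => ?_⟩
    · simp only [MulAut.mul_apply, MulAut.conj_apply, ← map_inv, map_mul, hx]
    · simp only [mul_inv_rev, inv_inv, MulAut.mul_apply, MulAut.conj_apply, ← map_inv, map_mul, hinv]
  | one => exact ⟨1, one_mem _, fun g => rfl, fun g => by simp⟩
  | mul y z _ _ hy hz =>
    obtain ⟨y', h1, h2, h3⟩ := hy
    obtain ⟨z', h4, h5, h6⟩ := hz
    refine ⟨y' * z', mul_mem h1 h4, fun g => ?_, fun g => ?_⟩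
    · rw [MulAut.mul_apply, MulAut.mul_apply, h2, h5]
    · rw [mul_inv_rev, mul_inv_rev, MulAut.mul_apply, MulAut.mul_apply, h6, h3]
  | inv y _ hy =>
    obtain ⟨y', h1, h2, h3⟩ := hy
    exact ⟨y'⁻¹, inv_mem h1, h3, fun g => by rw [inv_inv, inv_inv, h2]⟩

/-- **Transfer to a quotient.** -/
theorem Reach.transfer (hπ : Function.Surjective π) (hx : ∀ g, π (a g) = x (π g)) {k : ℕ} {J : Subgroup Γ}
    (h : Reach a k J) : Reach x k (J.map π) := by
  obtain ⟨f, hf⟩ := h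
  refine ⟨fun i => π (f i), ?_⟩
  rintro _ ⟨_, ⟨j, hj, rfl⟩, rfl⟩
  obtain ⟨β', h1, h2, -⟩ := transfer_aux hx f (hf ⟨j, hj, rfl⟩)
  have h3 : MulAut.conj (π j) = β' := by
    ext y
    obtain ⟨g, rfl⟩ := hπ y
    rw [← h2]
    simp [MulAut.conj_apply]
  change MulAut.conj (π j) ∈ _
  rw [h3]
  exact h1

end

/-! ### The statement of `S4327` -/

section

variable {L : Type*} [Group L] {x : MulAut L}

/-- **all of `L`** -/
theorem Reach.top {k : ℕ} (hk : 1 ≤ k) (h : Reach x k ⊤) :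
    ∃ f : Fin k → L, closure (Set.range fun i => MulAut.conj (f i) * x * (MulAut.conj (f i))⁻¹) =
      zpowers x ⊔ (MulAut.conj : L →* MulAut L).range := by
  obtain ⟨f, hf⟩ := h
  refine ⟨f, le_antisymm ?_ ?_⟩
  · rw [closure_le]
    rintro _ ⟨i, rfl⟩
    have h1 : (MulAut.conj (f i) : MulAut L) ∈ zpowers x ⊔ (MulAut.conj : L →* MulAut L).range :=
      mem_sup_right ⟨_, rfl⟩
    exact mul_mem (mul_mem h1 (mem_sup_left (mem_zpowers x))) (inv_mem h1)
  · have h2 : (MulAut.conj : L →* MulAut L).range ≤ Gn x f := by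
      rw [MonoidHom.range_eq_map]
      exact hf
    refine sup_le ?_ h2
    rw [zpowers_le]
    have h3 : (MulAut.conj (f ⟨0, hk⟩) : MulAut L) ∈ Gn x f := h2 ⟨_, rfl⟩
    have h4 := mul_mem (mul_mem (inv_mem h3) (mem_Gn x f ⟨0, hk⟩)) h3
    have h5 : (MulAut.conj (f ⟨0, hk⟩))⁻¹ * (MulAut.conj (f ⟨0, hk⟩) * x * (MulAut.conj (f ⟨0, hk⟩))⁻¹) *
        MulAut.conj (f ⟨0, hk⟩) = x := by group
    rwa [h5] at h4

/-- the order -/
theorem Reach.card [Finite L] (hinj : Function.Injective (MulAut.conj : L →* MulAut L)) {k r : ℕ} {J : Subgroup L}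
    (h : Reach x k J) (hr : r ∣ Nat.card J) :
    ∃ f : Fin k → L, r ∣ Nat.card (closure (Set.range fun i => MulAut.conj (f i) * x * (MulAut.conj (f i))⁻¹)) := by
  obtain ⟨f, hf⟩ := h
  refine ⟨f, ?_⟩
  have h1 : Nat.card (J.map (MulAut.conj : L →* MulAut L)) = Nat.card J :=
    (Nat.card_congr (J.equivMapOfInjective _ hinj).toEquiv).symm
  have h2 := Subgroup.card_dvd_of_le hf
  rw [h1] at h2
  exact hr.trans h2

theorem conj_injective [IsSimpleGroup L] (h : ¬ IsMulCommutative L) :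
    Function.Injective (MulAut.conj : L →* MulAut L) := by
  rw [← MonoidHom.ker_eq_bot_iff]
  have hn : (MulAut.conj : L →* MulAut L).ker.Normal := inferInstance
  rcases hn.eq_bot_or_eq_top with h1 | h1
  · exact h1
  · exfalso
    apply h
    refine ⟨⟨fun a b => ?_⟩⟩
    have h2 : (MulAut.conj a : MulAut L) = 1 := by
      have : a ∈ (MulAut.conj : L →* MulAut L).ker := by rw [h1]; trivial
      exact this
    have h3 := congrArg (fun t : MulAut L => t b) h2
    simp only [MulAut.conj_apply, MulAut.one_apply] at h3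
    rw [mul_inv_eq_iff_eq_mul] at h3
    exact h3

/-- some `k` conjugates of `x` generate a group of order divisible by `r` -/
def Ord (x : MulAut L) (k r : ℕ) : Prop := ∃ f : Fin k → L, r ∣ Nat.card (Gn x f)

theorem Reach.ord [Finite L] (hinj : Function.Injective (MulAut.conj : L →* MulAut L)) {k r : ℕ} {J : Subgroup L}
    (h : Reach x k J) (hr : r ∣ Nat.card J) : Ord x k r := h.card hinj hr

theorem Ord.of_orderOf {k r : ℕ} (hk : 1 ≤ k) (h : r ∣ orderOf x) : Ord x k r := by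
  refine ⟨fun _ => 1, h.trans ?_⟩
  have h1 : x ∈ Gn x (fun _ : Fin k => (1 : L)) := by
    have := mem_Gn x (fun _ : Fin k => (1 : L)) ⟨0, hk⟩
    simpa using this
  have h2 := Subgroup.orderOf_dvd_natCard (Gn x (fun _ : Fin k => (1 : L))) h1
  exact h2

theorem Ord.mono [Finite L] {k k' r : ℕ} (hk : 1 ≤ k) (hkk : k ≤ k') (h : Ord x k r) : Ord x k' r := by
  obtain ⟨f, hf⟩ := h
  refine ⟨fun i => if h : (i : ℕ) < k then f ⟨i, h⟩ else f ⟨0, hk⟩, hf.trans (Subgroup.card_dvd_of_le ?_)⟩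
  unfold Gn
  rw [closure_le]
  rintro _ ⟨i, rfl⟩
  apply Subgroup.subset_closure
  refine ⟨⟨i, i.2.trans_le hkk⟩, ?_⟩
  simp [i.2]

/-- the trichotomy of `S4327` for `r` and `x` (without the condition on the family of `L`) -/
def Tri (r : ℕ) (x : MulAut L) : Prop :=
  Reach x 11 ⊤ ∨ (¬ r ∣ Nat.card L ∧ Reach x (r - 1) ⊤) ∨ (r ∣ Nat.card L ∧ Ord x (2 * (r - 2)) r)

/-- the row of `L` -/
def Row (L : Type*) [Group L] : Prop :=
  ∀ (r : ℕ) (x : MulAut L), r.Prime → r ≠ 2 → (orderOf x).Prime → Tri r x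

/-- **from `d` conjugates generating everything** -/
theorem Tri.of_reach [Finite L] {r d : ℕ} (hd : 1 ≤ d)
    (hinj : Function.Injective (MulAut.conj : L →* MulAut L)) (h : Reach x d ⊤)
    (h1 : d ≤ 11 ∨ ((¬ r ∣ Nat.card L → d ≤ r - 1) ∧ (r ∣ Nat.card L → d ≤ 2 * (r - 2) ∨ Ord x (2 * (r - 2)) r))) :
    Tri r x := by
  rcases h1 with h1 | ⟨h1, h2⟩
  · exact Or.inl (h.mono hd h1)
  · by_cases hr : r ∣ Nat.card L
    · refine Or.inr (Or.inr ⟨hr, ?_⟩)
      rcases h2 hr with h3 | h3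
      · exact (h.mono hd h3).ord hinj (by rwa [Subgroup.card_top])
      · exact h3
    · exact Or.inr (Or.inl ⟨hr, h.mono hd (h1 hr)⟩)

end

section

variable {L L' : Type*} [Group L] [Group L']

/-- transport of an automorphism -/
def tr (e : L ≃* L') (x : MulAut L') : MulAut L := (e.trans x).trans e.symm

theorem tr_apply (e : L ≃* L') (x : MulAut L') (g : L) : e (tr e x g) = x (e g) := by
  change e (e.symm (x (e g))) = _
  rw [MulEquiv.apply_symm_apply]

theorem tr_apply' (e : L ≃* L') (x : MulAut L') (g : L') : e.symm (x g) = tr e x (e.symm g) := by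
  change _ = e.symm (x (e (e.symm g)))
  rw [MulEquiv.apply_symm_apply]

/-- transport, as a homomorphism -/
def trHom (e : L ≃* L') : MulAut L' ≃* MulAut L := MulAut.congr e.symm

theorem trHom_apply (e : L ≃* L') (x : MulAut L') : trHom e x = tr e x := by
  ext g
  rfl

theorem orderOf_tr (e : L ≃* L') (x : MulAut L') : orderOf (tr e x) = orderOf x := by
  rw [← trHom_apply, MulEquiv.orderOf_eq]

theorem Gn_tr (e : L ≃* L') (x : MulAut L') {k : ℕ} (f : Fin k → L') :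
    (Gn x f).map (trHom e).toMonoidHom = Gn (tr e x) (fun i => e.symm (f i)) := by
  unfold Gn
  rw [MonoidHom.map_closure]
  congr 1
  have key : ∀ i, trHom e (MulAut.conj (f i) * x * (MulAut.conj (f i))⁻¹) =
      MulAut.conj (e.symm (f i)) * tr e x * (MulAut.conj (e.symm (f i)))⁻¹ := by
    intro i
    have h1 : ∀ g : L', trHom e (MulAut.conj g) = MulAut.conj (e.symm g) := by
      intro g
      ext y
      rw [trHom_apply]
      change e.symm (g * e y * g⁻¹) = _
      simp [MulAut.conj_apply]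
    rw [map_mul, map_mul, map_inv, h1, trHom_apply]
  ext y
  constructor
  · rintro ⟨_, ⟨i, rfl⟩, rfl⟩
    exact ⟨i, (key i).symm⟩
  · rintro ⟨i, rfl⟩
    exact ⟨_, ⟨i, rfl⟩, key i⟩

theorem Ord.congr (e : L ≃* L') {x : MulAut L'} {k r : ℕ} (h : Ord (tr e x) k r) : Ord x k r := by
  obtain ⟨f, hf⟩ := h
  refine ⟨fun i => e (f i), ?_⟩
  have h1 := Gn_tr e x (fun i => e (f i))
  simp only [MulEquiv.symm_apply_apply] at h1
  rw [← h1] at hf
  rwa [← Nat.card_congr ((Gn x fun i => e (f i)).equivMapOfInjective _ (trHom e).injective).toEquiv] at hf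

theorem Reach.congr_top (e : L ≃* L') {x : MulAut L'} {k : ℕ} (h : Reach (tr e x) k ⊤) : Reach x k ⊤ := by
  have h1 := h.transfer (π := e.toMonoidHom) (x := x) e.surjective (tr_apply e x)
  rwa [Subgroup.map_top_of_surjective _ e.surjective] at h1

/-- **the rows are invariant under isomorphism** -/
theorem Row.congr (e : L ≃* L') (h : Row L) : Row L' := by
  intro r x hr h2 hx
  have hc : Nat.card L = Nat.card L' := Nat.card_congr e.toEquiv
  rcases h r (tr e x) hr h2 (by rwa [orderOf_tr]) with h | ⟨h1, h⟩ | ⟨h1, h⟩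
  · exact Or.inl (h.congr_top e)
  · exact Or.inr (Or.inl ⟨by rwa [← hc], h.congr_top e⟩)
  · exact Or.inr (Or.inr ⟨by rwa [← hc], h.congr e⟩)

/-- everything from a quasisimple (or any) group `Γ` above `L` -/
theorem Reach.transfer_top {Γ : Type*} [Group Γ] {π : Γ →* L} {a : MulAut Γ} {x : MulAut L}
    (hπ : Function.Surjective π) (hx : ∀ g, π (a g) = x (π g)) {k : ℕ} (h : Reach a k ⊤) : Reach x k ⊤ := by
  have h1 := h.transfer hπ hx
  rwa [Subgroup.map_top_of_surjective _ hπ] at h1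

end

end Cfsg.Agent.H915.Gs
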