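import Cfsg.Agent.H915.Gs.Base

/-!
# Chains of root groups (helper915), S4327

`Ch X Y N J` : `J` is contained in a group generated by a conjugate of `X ⊔ Y` and `N` further conjugates of `Y`, each of the
form `Y^g` with `X^g` contained in the group generated by the earlier ones.

`Ch.reach` : if `a X ≥ Y` and `Reach a s (X ⊔ Y)` then `Ch X Y N J → Reach a (s + N) J`.
-/

set_option autoImplicit false

namespace Cfsg.Agent.H915.Gs

open Subgroup

variable {Γ : Type*} [Group Γ]

/-- chains of root groups -/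
inductive Ch (X Y : Subgroup Γ) : ℕ → Subgroup Γ → Prop
  | base (g : Γ) : Ch X Y 0 (cj g (X ⊔ Y))
  | step {N : ℕ} {J : Subgroup Γ} (g : Γ) (h : Ch X Y N J) (hX : cj g X ≤ J) : Ch X Y (N + 1) (J ⊔ cj g Y)
  | sub {N : ℕ} {J J' : Subgroup Γ} (h : Ch X Y N J) (hJ : J' ≤ J) : Ch X Y N J'

variable {X Y : Subgroup Γ} {N : ℕ} {J : Subgroup Γ}

theorem Ch.conj (h : Ch X Y N J) (g : Γ) : Ch X Y N (cj g J) := by
  induction h with
  | base k => rw [cj_cj]; exact Ch.base _
  | step k h hX ih =>
    rw [cj, Subgroup.map_sup, ← cj, ← cj, cj_cj]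
    refine Ch.step _ ih ?_
    rw [← cj_cj]
    exact Subgroup.map_mono hX
  | sub h hJ ih => exact ih.sub (Subgroup.map_mono hJ)

theorem Ch.succ (h : Ch X Y N J) : Ch X Y (N + 1) J := by
  induction h with
  | base k =>
    exact (Ch.step (J := cj k (X ⊔ Y)) k (Ch.base k) (Subgroup.map_mono le_sup_left)).sub le_sup_left
  | step k h hX ih => exact Ch.step k ih (hX.trans le_rfl)
  | sub h hJ ih => exact ih.sub hJ

theorem Ch.mono (h : Ch X Y N J) {N' : ℕ} (hN : N ≤ N') : Ch X Y N' J := by
  induction hN with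
  | refl => exact h
  | step _ ih => exact ih.succ

/-- **chains are reached** -/
theorem Ch.reach (h : Ch X Y N J) {a : MulAut Γ} {s : ℕ} (hY : Y ≤ im a X) (hs : Reach a s (X ⊔ Y)) :
    Reach a (s + N) J := by
  induction h with
  | base k => exact hs.conj k
  | step k h hX ih => exact (ih.grow hX).sub (sup_le_sup_left (Subgroup.map_mono hY) _)
  | sub h hJ ih => exact ih.sub hJ

end Cfsg.Agent.H915.Gs
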