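import Cfsg.Agent.H915.Gs.WSub
import Cfsg.Agent.H915.Gs.Base
import Cfsg.Agent.LieClassical.HermBasic

/-!
# Two (three, four) elements `w t = u t * l (e * σ t)` generate `SL(2,q)` (helper915), S4327

* `wgen_odd` : `q ≥ 4`, `σ` of odd order, not (`q = 5` and `e` a non-square): two elements;
* `wgen_five` : `q = 5` : three elements;
* `wgen_two` : `σ` of order 2, `σ e = e`, `q ≠ 9` : three elements;   `wgen_nine` : `q = 9` : four elements;
* `wgen_three` : `q = 3`, `e = -1` : two elements;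

and the consequences for `Reach₁`: `sl2w_odd`, `sl2w_five`, `sl2w_two`, `sl2w_nine`, `sl2w_three`.
-/

set_option autoImplicit false

namespace Cfsg.Agent.H915.Gs

open Matrix Cfsg.Agent.LieClassical.SLTwoUnipotent

section

variable {F : Type*} [Field F] [Fintype F]

/-- the isomorphism with `ZMod p` -/
theorem exists_zmod {p : ℕ} [Fact p.Prime] (h : Fintype.card F = p) : Nonempty (ZMod p ≃+* F) := by
  have : Fintype.card (ZMod p) = Fintype.card F := by rw [ZMod.card, h]
  exact ⟨FiniteField.ringEquivOfCardEq this⟩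

theorem zmod_fix {p : ℕ} (φ : ZMod p ≃+* F) (σ : F ≃+* F) (x : ZMod p) : φ ((RingEquiv.refl _) x) = σ (φ x) := by
  have h : (φ : ZMod p →+* F) = (σ : F →+* F).comp (φ : ZMod p →+* F) := RingHom.ext_zmod _ _
  exact congrArg (fun f : ZMod p →+* F => f x) h

theorem five_case (h : Fintype.card F = 5) {e : F} (he : e ≠ 0) (σ : F ≃+* F) :
    WGen e σ 3 ∧ (IsSquare e → WGen e σ 2) := by
  obtain ⟨φ⟩ := exists_zmod (p := 5) h
  obtain ⟨e, rfl⟩ := φ.surjective e
  have he0 : e ≠ 0 := by rintro rfl; exact he (map_zero φ)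
  have hsq : IsSquare (φ e) → IsSquare e := by
    rintro ⟨r, hr⟩
    exact ⟨φ.symm r, by apply φ.injective; rw [map_mul, φ.apply_symm_apply, hr]⟩
  have key : ∀ e : ZMod 5, e ≠ 0 → (WGen e (RingEquiv.refl _) 3 ∧ (IsSquare e → WGen e (RingEquiv.refl _) 2)) := by
    intro e he
    have hc : e = 1 ∨ e = 2 ∨ e = 3 ∨ e = 4 := by revert e; decide
    rcases hc with rfl | rfl | rfl | rfl
    · exact ⟨w5_1.mono (by norm_num) (by norm_num), fun _ => w5_1⟩
    · exact ⟨w5_2, fun h => absurd h (by decide)⟩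
    · exact ⟨w5_3, fun h => absurd h (by decide)⟩
    · exact ⟨w5_4.mono (by norm_num) (by norm_num), fun _ => w5_4⟩
  have h1 := key e he0
  exact ⟨h1.1.map φ (zmod_fix φ σ), fun h => (h1.2 (hsq h)).map φ (zmod_fix φ σ)⟩

theorem seven_case (h : Fintype.card F = 7) {e : F} (he : e ≠ 0) (σ : F ≃+* F) : WGen e σ 2 := by
  obtain ⟨φ⟩ := exists_zmod (p := 7) h
  obtain ⟨e, rfl⟩ := φ.surjective e
  have he0 : e ≠ 0 := by rintro rfl; exact he (map_zero φ)
  have key : ∀ e : ZMod 7, e ≠ 0 → WGen e (RingEquiv.refl _) 2 := by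
    intro e he
    have hc : e = 1 ∨ e = 2 ∨ e = 3 ∨ e = 4 ∨ e = 5 ∨ e = 6 := by revert e; decide
    rcases hc with rfl | rfl | rfl | rfl | rfl | rfl
    exacts [w7_1, w7_2, w7_3, w7_4, w7_5, w7_6]
  exact (key e he0).map φ (zmod_fix φ σ)

theorem eleven_case (h : Fintype.card F = 11) {e : F} (he : e ≠ 0) (σ : F ≃+* F) : WGen e σ 2 := by
  obtain ⟨φ⟩ := exists_zmod (p := 11) h
  obtain ⟨e, rfl⟩ := φ.surjective e
  have he0 : e ≠ 0 := by rintro rfl; exact he (map_zero φ)
  have key : ∀ e : ZMod 11, e ≠ 0 → WGen e (RingEquiv.refl _) 2 := by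
    intro e he
    have hc : e = 1 ∨ e = 2 ∨ e = 3 ∨ e = 4 ∨ e = 5 ∨ e = 6 ∨ e = 7 ∨ e = 8 ∨ e = 9 ∨ e = 10 := by revert e; decide
    rcases hc with rfl | rfl | rfl | rfl | rfl | rfl | rfl | rfl | rfl | rfl
    exacts [w11_1, w11_2, w11_3, w11_4, w11_5, w11_6, w11_7, w11_8, w11_9, w11_10]
  exact (key e he0).map φ (zmod_fix φ σ)

theorem three_case (h : Fintype.card F = 3) (σ : F ≃+* F) : WGen (-1) σ 2 := by
  obtain ⟨φ⟩ := exists_zmod (p := 3) h
  have h1 := w3_2.map φ (zmod_fix φ σ)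
  have h2 : φ 2 = -1 := by
    have : (2 : ZMod 3) = -1 := by decide
    rw [this, map_neg, map_one]
  rwa [h2] at h1

section nine

open Cfsg.Agent.ChevalleyStructure.NineField

theorem exists_nine (h : Fintype.card F = 9) : Nonempty (F9 ≃+* F) := by
  have : Fintype.card F9 = Fintype.card F := by rw [F9.card_F9, h]
  exact ⟨FiniteField.ringEquivOfCardEq this⟩

theorem aut_nine (σ : F9 ≃+* F9) : (∀ x, σ x = x) ∨ ∀ x, σ x = frobNine x := by
  have h1 : σ ⟨0, 1⟩ * σ ⟨0, 1⟩ = -1 := by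
    rw [← map_mul]
    have : (⟨0, 1⟩ : F9) * ⟨0, 1⟩ = -1 := by decide +kernel
    rw [this, map_neg, map_one]
  have h2 : ∀ y : F9, y * y = -1 → y = ⟨0, 1⟩ ∨ y = ⟨0, 2⟩ := by decide +kernel
  have h3 : ∀ x : F9, ∃ a b : ℕ, x = (a : F9) + (b : F9) * ⟨0, 1⟩ := by
    intro x
    refine ⟨x.re.val, x.im.val, ?_⟩
    revert x
    decide +kernel
  rcases h2 _ h1 with h | h
  · left
    intro x
    obtain ⟨a, b, rfl⟩ := h3 x
    rw [map_add, map_mul, map_natCast, map_natCast, h]
  · right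
    intro x
    obtain ⟨a, b, rfl⟩ := h3 x
    have h5 : frobNine ⟨0, 1⟩ = ⟨0, 2⟩ := by decide +kernel
    rw [map_add, map_mul, map_natCast, map_natCast, h, map_add, map_mul, map_natCast, map_natCast, h5]

theorem nine_odd (h : Fintype.card F = 9) {e : F} (he : e ≠ 0) {σ : F ≃+* F} {n : ℕ} (hn : Odd n) (hσ : σ ^ n = 1) :
    WGen e σ 2 := by
  obtain ⟨φ⟩ := exists_nine h
  obtain ⟨e, rfl⟩ := φ.surjective e
  have he0 : e ≠ 0 := by rintro rfl; exact he (map_zero φ)
  have hid : ∀ x, φ ((RingEquiv.refl _) x) = σ (φ x) := by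
    rcases aut_nine ((φ.trans σ).trans φ.symm) with h1 | h1
    · intro x
      have h2 : φ.symm (σ (φ x)) = x := h1 x
      rw [RingEquiv.refl_apply]
      exact (φ.symm_apply_eq.1 h2).symm
    · exfalso
      -- `σ² = 1`, hence `σ = 1`
      have h2 : ∀ x, σ (φ x) = φ (frobNine x) := fun x => φ.symm_apply_eq.1 (h1 x)
      have h3 : ∀ x, frobNine (frobNine x) = x := by decide +kernel
      have h5 : σ * σ = 1 := by
        ext y
        obtain ⟨x, rfl⟩ := φ.surjective y
        change σ (σ (φ x)) = φ x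
        rw [h2, h2, h3]
      obtain ⟨m, rfl⟩ := hn
      have h6 : σ = 1 := by
        have : σ ^ (2 * m + 1) = σ := by rw [pow_succ, pow_mul, sq, h5, one_pow, one_mul]
        rw [← this, hσ]
      have h7 := h2 ⟨0, 1⟩
      rw [h6] at h7
      have h8 : (⟨0, 1⟩ : F9) = frobNine ⟨0, 1⟩ := φ.injective h7
      exact absurd h8 (by decide +kernel)
  have key : ∀ e : F9, e ≠ 0 → WGen e (RingEquiv.refl _) 2 := by
    intro e he
    have hc : ∀ e : F9, e = 0 ∨ e = ⟨0, 1⟩ ∨ e = ⟨0, 2⟩ ∨ e = ⟨1, 0⟩ ∨ e = ⟨1, 1⟩ ∨ e = ⟨1, 2⟩ ∨ e = ⟨2, 0⟩ ∨ e = ⟨2, 1⟩ ∨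
      e = ⟨2, 2⟩ := by decide +kernel
    rcases hc e with rfl | rfl | rfl | rfl | rfl | rfl | rfl | rfl | rfl
    · exact absurd rfl he
    exacts [w9_01, w9_02, w9_10, w9_11, w9_12, w9_20, w9_21, w9_22]
  exact (key e he0).map φ hid

theorem nine_two (h : Fintype.card F = 9) {e : F} (he : e ≠ 0) {σ : F ≃+* F} (hσ : σ ≠ 1) (hσe : σ e = e) :
    WGen e σ 4 := by
  obtain ⟨φ⟩ := exists_nine h
  obtain ⟨e, rfl⟩ := φ.surjective e
  have he0 : e ≠ 0 := by rintro rfl; exact he (map_zero φ)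
  have hid : ∀ x, φ (frobNine x) = σ (φ x) := by
    rcases aut_nine ((φ.trans σ).trans φ.symm) with h1 | h1
    · exfalso
      apply hσ
      ext y
      obtain ⟨x, rfl⟩ := φ.surjective y
      exact φ.symm_apply_eq.1 (h1 x)
    · intro x
      exact (φ.symm_apply_eq.1 (h1 x)).symm
  have hf : frobNine e = e := φ.injective ((hid e).trans hσe)
  have hc : ∀ e : F9, e ≠ 0 → frobNine e = e → e = ⟨1, 0⟩ ∨ e = ⟨2, 0⟩ := by decide +kernel
  rcases hc e he0 hf with rfl | rfl
  · exact w9f_10.map φ hid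
  · exact w9f_20.map φ hid

end nine

section four

open Cfsg.Agent.Lib.FieldFour

theorem four_two (h : Fintype.card F = 4) {e : F} (he : e ≠ 0) {σ : F ≃+* F} (hσ : σ ≠ 1) (hσe : σ e = e) :
    WGen e σ 3 := by
  obtain ⟨φ⟩ : Nonempty (F4 ≃+* F) := ⟨(equivOfCard h).symm⟩
  obtain ⟨e, rfl⟩ := φ.surjective e
  have he0 : e ≠ 0 := by rintro rfl; exact he (map_zero φ)
  have haut : ∀ τ : F4 ≃+* F4, (∀ x, τ x = x) ∨ ∀ x, τ x = frobFour x := by
    intro τ
    have h0 : τ F4.o = F4.o := map_zero τ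
    have h1 : τ F4.i = F4.i := map_one τ
    have h2 : τ F4.w ≠ F4.o := fun h => absurd (τ.injective (h.trans h0.symm)) (by decide)
    have h3 : τ F4.w ≠ F4.i := fun h => absurd (τ.injective (h.trans h1.symm)) (by decide)
    have h5 : τ F4.v = τ F4.w * τ F4.w := by rw [← map_mul]; rfl
    have h6 : τ F4.w = F4.w ∨ τ F4.w = F4.v := by
      revert h2 h3
      generalize τ F4.w = y
      revert y
      decide
    rcases h6 with h | h
    · left
      intro x
      cases x
      · exact h0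
      · exact h1
      · exact h
      · rw [h5, h]; rfl
    · right
      intro x
      cases x
      · rw [h0]; rfl
      · rw [h1]; rfl
      · rw [h]; rfl
      · rw [h5, h]; rfl
  have hid : ∀ x, φ (frobFour x) = σ (φ x) := by
    rcases haut ((φ.trans σ).trans φ.symm) with h1 | h1
    · exfalso
      apply hσ
      ext y
      obtain ⟨x, rfl⟩ := φ.surjective y
      exact φ.symm_apply_eq.1 (h1 x)
    · intro x
      exact (φ.symm_apply_eq.1 (h1 x)).symm
  have hf : frobFour e = e := φ.injective ((hid e).trans hσe)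
  have hc : ∀ e : F4, e ≠ 0 → frobFour e = e → e = F4.i := by decide +kernel
  rw [hc e he0 hf]
  exact w4f.map φ hid

end four

/-- **`σ` of odd order: two elements** -/
theorem wgen_odd (h4 : 4 ≤ Fintype.card F) {e : F} (he : e ≠ 0) (h5 : Fintype.card F = 5 → IsSquare e)
    {σ : F ≃+* F} {n : ℕ} (hn : Odd n) (hσ : σ ^ n = 1) : WGen e σ 2 := by
  by_cases hev : Even (Fintype.card F)
  · exact WGen.of_pair (w_gen h4 he σ hn hσ (Or.inl hev))
  by_cases h13 : 13 ≤ Fintype.card F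
  · exact WGen.of_pair (w_gen h4 he σ hn hσ (Or.inr (Or.inr h13)))
  rw [Nat.not_even_iff_odd] at hev
  obtain ⟨k, hk⟩ := hev
  have hc : Fintype.card F = 5 ∨ Fintype.card F = 7 ∨ Fintype.card F = 9 ∨ Fintype.card F = 11 := by omega
  rcases hc with h | h | h | h
  · exact (five_case h he σ).2 (h5 h)
  · exact seven_case h he σ
  · exact nine_odd h he hn hσ
  · exact eleven_case h he σ

/-- **`q = 5`: three elements** -/
theorem wgen_five (h : Fintype.card F = 5) {e : F} (he : e ≠ 0) (σ : F ≃+* F) : WGen e σ 3 := (five_case h he σ).1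

/-- the fixed field of an automorphism of order 2 -/
theorem exists_fixed {σ : F ≃+* F} (hσ : σ ≠ 1) (hσ2 : σ * σ = 1) :
    ∃ (K : Subfield F) (_ : Fintype K), Fintype.card K ^ 2 = Fintype.card F ∧ (∀ x, x ∈ K ↔ σ x = x) ∧
      ∀ x, σ x = x ^ Fintype.card K := by
  classical
  let G : Subgroup (F ≃+* F) := Subgroup.zpowers σ
  let K : Subfield F := FixedPoints.subfield G F
  have hmem : ∀ x, x ∈ K ↔ σ x = x := by
    intro x
    constructor
    · intro hx
      exact hx ⟨σ, Subgroup.mem_zpowers σ⟩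
    · intro hx
      rintro ⟨τ, hτ⟩
      have h1 : ∀ τ ∈ G, τ x = x := by
        intro τ hτ
        obtain ⟨n, rfl⟩ := Subgroup.mem_zpowers_iff.1 hτ
        have h2 : ∀ n : ℕ, (σ ^ n) x = x := by
          intro n
          induction n with
          | zero => rfl
          | succ n ih =>
            rw [pow_succ]
            change (σ ^ n) (σ x) = x
            rw [hx, ih]
        rcases Int.eq_nat_or_neg n with ⟨m, rfl | rfl⟩
        · rw [zpow_natCast]; exact h2 m
        · rw [_root_.zpow_neg, zpow_natCast]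
          have h3 := congrArg ((σ ^ m)⁻¹ : F ≃+* F) (h2 m)
          have h5 : ((σ ^ m)⁻¹ : F ≃+* F) ((σ ^ m) x) = x := by
            change (((σ ^ m)⁻¹ : F ≃+* F) * (σ ^ m)) x = x
            rw [inv_mul_cancel]; rfl
          rw [← h3, h5]
      exact h1 τ hτ
  have hGF : Finite (F ≃+* F) :=
    Finite.of_injective (fun τ : F ≃+* F => (τ : F → F)) (fun a b h => RingEquiv.ext (congrFun h))
  have hGf : Finite G := inferInstance
  have : Fintype G := Fintype.ofFinite G
  have hK : Fintype K := Fintype.ofFinite K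
  have hord : orderOf σ = 2 := orderOf_eq_prime (by rw [sq]; exact hσ2) hσ
  have hcG : Fintype.card G = 2 := by
    rw [← Nat.card_eq_fintype_card, Nat.card_zpowers, hord]
  have h1 : Module.finrank K F = 2 := by
    rw [← hcG]
    exact FixedPoints.finrank_eq_card G F
  have h2 : Fintype.card F = Fintype.card K ^ 2 := by
    rw [Module.card_eq_pow_finrank (K := K) (V := F), h1]
  refine ⟨K, hK, h2.symm, hmem, ?_⟩
  intro x
  obtain ⟨p, hcp⟩ := CharP.exists F
  have hp : p.Prime := CharP.char_is_prime F p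
  have : Fact p.Prime := ⟨hp⟩
  have hcpK : CharP K p := by
    refine ⟨fun n => ?_⟩
    rw [← CharP.cast_eq_zero_iff F p]
    constructor
    · intro h
      have := congrArg (K.subtype) h
      simpa using this
    · intro h
      apply K.subtype_injective
      simpa using h
  obtain ⟨k, -, hk⟩ := FiniteField.card K p
  set Q := Fintype.card K with hQ
  have hadd : ∀ a b : F, (a + b) ^ Q = a ^ Q + b ^ Q := by
    intro a b
    rw [hk]
    exact add_pow_char_pow (R := F) a b p k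
  have hfix : ∀ a : F, σ a = a → a ^ Q = a := by
    intro a ha
    have h3 := FiniteField.pow_card (⟨a, (hmem a).2 ha⟩ : K)
    have h5 := congrArg K.subtype h3
    rw [map_pow] at h5
    exact h5
  have hσσ : ∀ y, σ (σ y) = y := by
    intro y
    have := congrArg (fun τ : F ≃+* F => τ y) hσ2
    exact this
  have ha := hfix (x + σ x) (by rw [map_add, hσσ, add_comm])
  have hb := hfix (x * σ x) (by rw [map_mul, hσσ, mul_comm])
  have hprod : (x ^ Q - x) * (x ^ Q - σ x) = 0 := by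
    rw [hadd] at ha
    rw [mul_pow] at hb
    -- `x^Q + (σ x)^Q = x + σ x`, `x^Q (σ x)^Q = x σ x`
    linear_combination (x ^ Q) * ha - hb
  rcases mul_eq_zero.1 hprod with h | h
  · have h3 : x ^ Fintype.card K = x := sub_eq_zero.1 h
    obtain ⟨t, ht⟩ := Cfsg.Agent.H390.PslSpec.mem_range_of_pow_card (F := K) K.subtype h3
    have h5 : σ x = x := (hmem x).1 (ht ▸ t.2)
    rw [h5]
    exact h3.symm
  · exact (sub_eq_zero.1 h).symm

/-- **`σ` of order 2, `q ≠ 9`: three elements** -/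
theorem wgen_two (h9 : Fintype.card F ≠ 9) {e : F} (he : e ≠ 0) {σ : F ≃+* F} (hσ : σ ≠ 1) (hσ2 : σ * σ = 1)
    (hσe : σ e = e) : WGen e σ 3 := by
  obtain ⟨K, iK, hcard, hmem, hpow⟩ := exists_fixed hσ hσ2
  set Q := Fintype.card K with hQ
  have hQ1 : 1 < Q := Fintype.one_lt_card
  rcases Nat.lt_or_ge Q 4 with hQ4 | hQ4
  · have h23 : Q = 2 ∨ Q = 3 := by omega
    rcases h23 with h | h
    · rw [h] at hcard
      exact four_two (by omega) he hσ hσe
    · rw [h] at hcard
      omega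
  -- `e = 1`
  have key : WGen (1 : F) σ 3 := by
    obtain ⟨t, ht⟩ := wgen_odd (F := K) hQ4 (one_ne_zero) (fun _ => ⟨1, by ring⟩) (σ := 1) (n := 1) odd_one (by rw [pow_one])
    obtain ⟨x, hx⟩ : ∃ x : F, x ∉ K := by
      by_contra hcon
      push Not at hcon
      have h1 : Fintype.card F ≤ Fintype.card K :=
        Fintype.card_le_of_injective (fun y : F => (⟨y, hcon y⟩ : K)) (fun a b h => congrArg Subtype.val h)
      rw [← hcard, ← hQ] at h1
      nlinarith
    refine ⟨![(t 0 : F), (t 1 : F), x], ?_⟩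
    apply sub_gen K.subtype hcard hQ4 (t := x) (x := 1 * σ x) ?_ ?_ ?_
    · intro A
      have hA : A ∈ Subgroup.closure (Set.range fun i => w (1 : K) 1 (t i)) := by rw [ht]; trivial
      have h1 : SpecialLinearGroup.map K.subtype A ∈
          (Subgroup.closure (Set.range fun i => w (1 : K) 1 (t i))).map (SpecialLinearGroup.map (n := Fin 2) K.subtype) :=
        ⟨A, hA, rfl⟩
      rw [MonoidHom.map_closure] at h1
      refine (Subgroup.closure_mono ?_) h1
      rintro _ ⟨_, ⟨i, rfl⟩, rfl⟩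
      have h2 : ∀ y : K, SpecialLinearGroup.map K.subtype (w (1 : K) 1 y) = w (1 : F) σ (y : F) := by
        intro y
        apply ext_coe
        rw [coe_w]
        change (w (1 : K) 1 y).1.map K.subtype = _
        rw [coe_w, (hmem (y : F)).1 y.2]
        ext a b
        fin_cases a <;> fin_cases b <;> simp
      rw [h2]
      fin_cases i
      · exact ⟨0, rfl⟩
      · exact ⟨1, rfl⟩
    · intro y hy
      apply hx
      rw [← hy]
      exact y.2
    · exact Subgroup.subset_closure ⟨2, rfl⟩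
  -- general `e`
  have hinv : (e⁻¹) ^ Q = e⁻¹ := by
    rw [← hpow, map_inv₀, hσe]
  obtain ⟨c, hc0, hc⟩ := Cfsg.Agent.LieClassical.HermBasic.exists_norm_eq_ne (F := F) (q := Q) hcard.symm hinv
    (inv_ne_zero he)
  have h1 := key.scale hc0
  rw [hpow c, hc, one_div, inv_inv] at h1
  exact h1

/-- **`σ` of order 2, `q = 9`: four elements** -/
theorem wgen_nine (h : Fintype.card F = 9) {e : F} (he : e ≠ 0) {σ : F ≃+* F} (hσ : σ ≠ 1) (hσe : σ e = e) :
    WGen e σ 4 := nine_two h he hσ hσe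

/-- **`q = 3`, `e = -1`** -/
theorem wgen_three (h : Fintype.card F = 3) (σ : F ≃+* F) : WGen (-1 : F) σ 2 := three_case h σ

end

/-! ### the consequences for `Reach₁` -/

section

variable {F : Type*} [Field F] {Γ : Type*} [Group Γ]

/-- **the interface**: `a (ψ (u t)) = ψ (l (c * σ t))` and `B` elements `w (-c) σ t` which generate `SL(2,F)` -/
theorem reach_of_wgen {a : MulAut Γ} {ψ : SpecialLinearGroup (Fin 2) F →* Γ} {c : F} {σ : F ≃+* F}
    (hψ : ∀ t, a (ψ (u t)) = ψ (l (c * σ t))) {B : ℕ} (h : WGen (-c) σ B) : Reach₁ a B ψ.range := by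
  obtain ⟨t, ht⟩ := h
  have h1 := Reach₁.comm a (fun i => ψ (u (t i)))
  have h2 : Subgroup.closure (Set.range fun i => ψ (u (t i)) * (a (ψ (u (t i))))⁻¹) = ψ.range := by
    rw [MonoidHom.range_eq_map, ← ht, MonoidHom.map_closure]
    congr 1
    rw [← Set.range_comp]
    congr 1
    ext1 i
    rw [hψ, ← map_inv, ← l_neg, ← map_mul]
    change ψ (u (t i) * l (-(c * σ (t i)))) = ψ (u (t i) * l (-c * σ (t i)))
    rw [neg_mul]
  rwa [h2] at h1

variable [Fintype F] {a : MulAut Γ} {ψ : SpecialLinearGroup (Fin 2) F →* Γ} {c : F} {σ : F ≃+* F}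

/-- **`σ` of odd order: two further conjugates**, except `q = 5` and `c` a non-square -/
theorem sl2w_odd (h4 : 4 ≤ Fintype.card F) (hc : c ≠ 0) (hψ : ∀ t, a (ψ (u t)) = ψ (l (c * σ t))) {n : ℕ} (hn : Odd n)
    (hσ : σ ^ n = 1) (h5 : Fintype.card F = 5 → IsSquare c) : Reach₁ a 2 ψ.range := by
  apply reach_of_wgen hψ
  apply wgen_odd h4 (neg_ne_zero.2 hc) ?_ hn hσ
  intro h
  have h1 : IsSquare (-1 : F) := by
    rw [FiniteField.isSquare_neg_one_iff, h]
    norm_num
  have h2 := h1.mul (h5 h)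
  rwa [neg_one_mul] at h2

/-- `σ = 1` -/
theorem sl2w_one (h4 : 4 ≤ Fintype.card F) (hc : c ≠ 0) (hψ : ∀ t, a (ψ (u t)) = ψ (l (c * t)))
    (h5 : Fintype.card F = 5 → IsSquare c) : Reach₁ a 2 ψ.range :=
  sl2w_odd (σ := 1) h4 hc hψ (n := 1) odd_one (pow_one _) h5

/-- **`q = 5`: three further conjugates** -/
theorem sl2w_five (h : Fintype.card F = 5) (hc : c ≠ 0) (hψ : ∀ t, a (ψ (u t)) = ψ (l (c * σ t))) :
    Reach₁ a 3 ψ.range :=
  reach_of_wgen hψ (wgen_five h (neg_ne_zero.2 hc) σ)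

/-- `q ≥ 4`, `σ` of odd order: always three further conjugates -/
theorem sl2w_three' (h4 : 4 ≤ Fintype.card F) (hc : c ≠ 0) (hψ : ∀ t, a (ψ (u t)) = ψ (l (c * σ t))) {n : ℕ} (hn : Odd n)
    (hσ : σ ^ n = 1) : Reach₁ a 3 ψ.range := by
  by_cases h : Fintype.card F = 5
  · exact sl2w_five h hc hψ
  · exact (sl2w_odd h4 hc hψ hn hσ (fun h' => absurd h' h)).mono (by norm_num)

/-- **`σ` of order 2: three further conjugates**, `q ≠ 9` -/
theorem sl2w_two (h9 : Fintype.card F ≠ 9) (hc : c ≠ 0) (hψ : ∀ t, a (ψ (u t)) = ψ (l (c * σ t))) (hσ : σ ≠ 1)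
    (hσ2 : σ * σ = 1) (hσc : σ c = c) : Reach₁ a 3 ψ.range :=
  reach_of_wgen hψ (wgen_two h9 (neg_ne_zero.2 hc) hσ hσ2 (by rw [map_neg, hσc]))

/-- **`σ` of order 2, `q = 9`: four further conjugates** -/
theorem sl2w_nine (h : Fintype.card F = 9) (hc : c ≠ 0) (hψ : ∀ t, a (ψ (u t)) = ψ (l (c * σ t))) (hσ : σ ≠ 1)
    (hσc : σ c = c) : Reach₁ a 4 ψ.range :=
  reach_of_wgen hψ (wgen_nine h (neg_ne_zero.2 hc) hσ (by rw [map_neg, hσc]))

/-- `σ` of order 2: always four further conjugates -/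
theorem sl2w_four' (hc : c ≠ 0) (hψ : ∀ t, a (ψ (u t)) = ψ (l (c * σ t))) (hσ : σ ≠ 1)
    (hσ2 : σ * σ = 1) (hσc : σ c = c) : Reach₁ a 4 ψ.range := by
  by_cases h : Fintype.card F = 9
  · exact sl2w_nine h hc hψ hσ hσc
  · exact (sl2w_two h hc hψ hσ hσ2 hσc).mono (by norm_num)

/-- **`q = 3`, `c = 1`: two further conjugates** -/
theorem sl2w_three (h : Fintype.card F = 3) (hψ : ∀ t, a (ψ (u t)) = ψ (l t)) : Reach₁ a 2 ψ.range :=
  reach_of_wgen (c := 1) (σ := 1) (fun t => by rw [hψ, one_mul]; rfl) (wgen_three h 1)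

end

end Cfsg.Agent.H915.Gs
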