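import Cfsg.Agent.H989.Gs.Semi
import Cfsg.Agent.H199.PslAut

/-!
# S4327: normal forms of the automorphisms of prime order of `PSL_n(F)` (helper915)

`conv` : an automorphism of prime order of `PSL_n(F)`, `n ≥ 3`, `F` finite, is linear, or conjugate to a field
automorphism, or `lift (cj h * fld σ * itr)` with `h` hermitian, symmetric or alternating.
-/

set_option autoImplicit false

namespace Cfsg.Agent.H915.GsConv

open Matrix Cfsg.Agent.ClassicalGeometry.AutPSL.Auto Cfsg.Agent.H199.PslAut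
open Cfsg.Agent.H989.Gs.Desc (sm sm_apply exists_normalize span_fixed)

section

variable {F : Type*} [Field F] {n : ℕ}

/-- the semilinear map `v ↦ g (σ v)` -/
noncomputable def slin (g : GL (Fin n) F) (σ : F ≃+* F) : (Fin n → F) ≃+ (Fin n → F) where
  toFun v := g.1 *ᵥ (fun i => σ (v i))
  invFun v := fun i => σ.symm (((g⁻¹ : GL (Fin n) F).1 *ᵥ v) i)
  left_inv v := by
    funext i
    change σ.symm (((g⁻¹ : GL (Fin n) F).1 *ᵥ (g.1 *ᵥ fun i => σ (v i))) i) = v i
    rw [mulVec_mulVec, ← Units.val_mul, inv_mul_cancel, Units.val_one, one_mulVec, RingEquiv.symm_apply_apply]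
  right_inv v := by
    change g.1 *ᵥ (fun i => σ (σ.symm (((g⁻¹ : GL (Fin n) F).1 *ᵥ v) i))) = v
    have : (fun i => σ (σ.symm (((g⁻¹ : GL (Fin n) F).1 *ᵥ v) i))) = (g⁻¹ : GL (Fin n) F).1 *ᵥ v := by
      funext i
      rw [RingEquiv.apply_symm_apply]
    rw [this, mulVec_mulVec, ← Units.val_mul, mul_inv_cancel, Units.val_one, one_mulVec]
  map_add' v w := by
    change g.1 *ᵥ (fun i => σ (v i + w i)) = _
    have : (fun i => σ (v i + w i)) = (fun i => σ (v i)) + fun i => σ (w i) := by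
      funext i
      rw [map_add]
      rfl
    rw [this, mulVec_add]

theorem slin_apply (g : GL (Fin n) F) (σ : F ≃+* F) (v : Fin n → F) :
    slin g σ v = g.1 *ᵥ (fun i => σ (v i)) := rfl

theorem slin_smul (g : GL (Fin n) F) (σ : F ≃+* F) (a : F) (v : Fin n → F) :
    slin g σ (a • v) = σ a • slin g σ v := by
  rw [slin_apply, slin_apply, ← mulVec_smul]
  congr 1
  funext i
  simp

/-- the norm of a matrix -/
noncomputable def nrm (g : GL (Fin n) F) (σ : F ≃+* F) : ℕ → GL (Fin n) F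
  | 0 => 1
  | k + 1 => g * mapGL σ (nrm g σ k)

theorem slin_iterate (g : GL (Fin n) F) (σ : RingAut F) (k : ℕ) (v : Fin n → F) :
    (slin g σ)^[k] v = (nrm g σ k).1 *ᵥ (fun i => (σ ^ k) (v i)) := by
  induction k with
  | zero =>
    change v = (1 : Matrix (Fin n) (Fin n) F) *ᵥ _
    rw [one_mulVec]
    rfl
  | succ k ih =>
    rw [Function.iterate_succ_apply', ih, slin_apply]
    change _ = (g.1 * (nrm g σ k).1.map σ) *ᵥ _
    rw [← mulVec_mulVec]
    congr 1
    funext i
    simp only [mulVec, dotProduct, map_sum, map_mul, Matrix.map_apply]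
    refine Finset.sum_congr rfl fun j _ => ?_
    rw [pow_succ', RingAut.mul_apply]

theorem pow_form (g : GL (Fin n) F) (σ : RingAut F) (k : ℕ) :
    (Psi n F g * phi n F σ) ^ k = Psi n F (nrm g σ k) * phi n F (σ ^ k) := by
  induction k with
  | zero =>
    rw [pow_zero, pow_zero, map_one, mul_one]
    exact (map_one _).symm
  | succ k ih =>
    rw [pow_succ', ih, pow_succ', map_mul (phi n F)]
    change _ = Psi n F (g * mapGL σ (nrm g σ k)) * _
    rw [map_mul (Psi n F), mul_assoc, mul_assoc, ← mul_assoc (phi n F σ), phi_mul_Psi, mul_assoc]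

end

variable {F : Type*} [Field F] [Fintype F] {n : ℕ}

theorem finite_ringAut : Finite (RingAut F) := by
  have : Function.Injective (fun τ : RingAut F => (τ : F → F)) := fun τ ρ h => by
    ext x
    exact congrFun h x
  exact Finite.of_injective _ this

/-- **semilinear automorphisms of prime order are conjugate to field automorphisms** -/
theorem conv_semi (hn : 2 ≤ n) {g : GL (Fin n) F} {σ : RingAut F} (hσ : σ ≠ 1)
    (hx : (orderOf (Psi n F g * phi n F σ)).Prime) :
    ∃ b : GL (Fin n) F, Psi n F g * phi n F σ = Psi n F b * phi n F σ * (Psi n F b)⁻¹ := by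
  have hfin : Finite (RingAut F) := finite_ringAut
  set r := orderOf (Psi n F g * phi n F σ) with hr
  have h1 : (Psi n F g * phi n F σ) ^ r = 1 := pow_orderOf_eq_one _
  rw [pow_form, ← map_one (phi n F)] at h1
  obtain ⟨⟨u, hu⟩, h2⟩ := Psi_phi_eq hn h1
  have hord : orderOf σ = r := by
    have := Fact.mk hx
    exact orderOf_eq_prime h2 hσ
  have hM := slin_smul g σ
  have hMl : ∀ v, (slin g σ)^[orderOf σ] v = (u : F) • v := by
    intro v
    rw [hord, slin_iterate, hu, h2, coe_scal, scalar_apply]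
    funext i
    rw [mulVec_diagonal]
    rfl
  have hV : (fun _ => 1 : Fin n → F) ≠ 0 := fun h => one_ne_zero (congrFun h ⟨0, by omega⟩)
  obtain ⟨b, hb⟩ := exists_normalize (σ := σ) hM u.ne_zero hMl hV
  have hM' : ∀ (a : F) v, sm b (slin g σ) (a • v) = σ a • sm b (slin g σ) v := by
    intro a v
    rw [sm_apply, sm_apply, hM, smul_comm]
  have hsp := span_fixed (U := (⊤ : Submodule F (Fin n → F))) hM' rfl (orderOf_pos σ) hb (fun _ _ => trivial)
  obtain ⟨v, hv, -, hli⟩ := Cfsg.Agent.H989.Gs.Frame.exists_fix_basis (r := n) hsp (by simp)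
  let B : Matrix (Fin n) (Fin n) F := Matrix.of fun i j => v j i
  have hB : IsUnit B := by
    rw [← Matrix.linearIndependent_cols_iff_isUnit]
    exact hli
  obtain ⟨B', hB'⟩ := hB
  have hBv : ∀ i j, B'.1 i j = v j i := fun i j => by rw [hB']; rfl
  have key : scal n F b * g * mapGL σ B' = B' := by
    apply Units.ext
    ext i j
    have h3 := congrFun (hv j).2 i
    rw [sm_apply, slin_apply] at h3
    rw [hBv, ← h3]
    change (scalar (Fin n) (b : F) * g.1 * B'.1.map σ) i j = _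
    rw [mul_assoc, scalar_apply, diagonal_mul, Matrix.mul_apply, Pi.smul_apply, smul_eq_mul]
    congr 1
    simp only [mulVec, dotProduct, Matrix.map_apply, hBv]
  refine ⟨B', ?_⟩
  have h4 : Psi n F g = Psi n F B' * (Psi n F (mapGL σ B'))⁻¹ := by
    rw [eq_mul_inv_iff_mul_eq, ← map_mul]
    conv_rhs => rw [← key, mul_assoc, map_mul, Psi_scal, one_mul]
  rw [h4, mul_assoc, mul_assoc]
  congr 1
  rw [inv_mul_eq_iff_eq_mul, ← mul_assoc, ← phi_mul_Psi, mul_assoc, mul_inv_cancel, mul_one]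

/-- **graph type** -/
theorem conv_graph (hn : 3 ≤ n) {g : GL (Fin n) F} {σ : RingAut F}
    (hx : (orderOf (Psi n F g * phi n F σ * iot n F)).Prime) :
    ∃ (h : GL (Fin n) F), (∀ x, σ (σ x) = x) ∧ Psi n F g = Psi n F h ∧
      ((σ ≠ 1 ∧ (h.1.map σ)ᵀ = h.1) ∨ (σ = 1 ∧ h.1ᵀ = h.1) ∨ (σ = 1 ∧ h.1ᵀ = -h.1 ∧ ∀ i, h.1 i i = 0)) := by
  have hsq : ∀ (g' : GL (Fin n) F) (τ : RingAut F), (Psi n F g' * phi n F τ * iot n F) * (Psi n F g * phi n F σ * iot n F) =
      Psi n F (g' * mapGL τ (itGL g)) * phi n F (τ * σ) := by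
    intro g' τ
    have h1 : iot n F * (Psi n F g * phi n F σ * iot n F) = Psi n F (itGL g) * phi n F σ := by
      rw [← mul_assoc, ← mul_assoc, iot_mul_Psi, mul_assoc (Psi n F (itGL g)), iot_mul_phi, mul_assoc, mul_assoc,
        iot_mul_iot, mul_one]
    rw [mul_assoc (Psi n F g' * phi n F τ), h1, map_mul, map_mul, mul_assoc, mul_assoc, ← mul_assoc (phi n F τ),
      phi_mul_Psi, mul_assoc]
  set x := Psi n F g * phi n F σ * iot n F with hxdef
  have h2 : orderOf x = 2 := by
    rcases hx.eq_two_or_odd' with h | ⟨k, hk⟩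
    · exact h
    · exfalso
      have h3 : x ^ (2 * k + 1) = 1 := by rw [← hk, pow_orderOf_eq_one]
      rw [pow_succ, pow_mul, pow_two, hsq, pow_form] at h3
      rw [hxdef, ← mul_assoc, ← mul_assoc, mul_assoc (Psi n F _) (phi n F _) (Psi n F g), phi_mul_Psi, ← mul_assoc,
        ← map_mul, mul_assoc (Psi n F _) (phi n F _) (phi n F σ), ← map_mul] at h3
      exact not_graph' hn (h3.trans (map_one (phi n F)).symm)
  have h3 : x * x = 1 := by rw [← pow_two, ← h2, pow_orderOf_eq_one]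
  rw [hsq, ← map_one (phi n F)] at h3
  obtain ⟨⟨u, hu⟩, hσ⟩ := Psi_phi_eq (by omega) h3
  have hσσ : ∀ x, σ (σ x) = x := fun y => by
    rw [← RingAut.mul_apply, hσ, RingAut.one_apply]
  have hg : g.1 = (u : F) • (g.1.map σ)ᵀ := by
    have h4 : g = scal n F u * (mapGL σ (itGL g))⁻¹ := by rw [← hu, mul_inv_cancel_right]
    have h5 : (mapGL σ (itGL g))⁻¹ = mapGL σ (itGL g)⁻¹ := (map_inv _ _).symm
    rw [h5] at h4
    have h6 := congrArg Units.val h4
    change g.1 = scalar (Fin n) (u : F) * ((itGL g)⁻¹).1.map σ at h6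
    rw [coe_itGL_inv] at h6
    rw [scalar_apply, ← smul_eq_diagonal_mul, transpose_map] at h6
    exact h6
  have hgT : (g.1.map σ)ᵀ = ((u⁻¹ : Fˣ) : F) • g.1 := by
    conv_rhs => rw [hg, smul_smul, ← Units.val_mul, inv_mul_cancel, Units.val_one, one_smul]
  have hne : Nonempty (Fin n) := ⟨⟨0, by omega⟩⟩
  have hent : ∃ i j, g.1 i j ≠ 0 := by
    by_contra hcon
    push Not at hcon
    exact g.ne_zero (by ext i j; exact hcon i j)
  have hcc : (u : F) * σ u = 1 := by
    have h4 : (g.1.map σ)ᵀ = σ (u : F) • g.1 := by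
      ext i j
      have h5 := congrFun (congrFun hg j) i
      rw [transpose_apply, Matrix.map_apply, h5, Matrix.smul_apply, transpose_apply, Matrix.map_apply, smul_eq_mul,
        map_mul, hσσ, Matrix.smul_apply, smul_eq_mul]
    rw [h4] at hgT
    obtain ⟨i, j, hij⟩ := hent
    have h5 := congrFun (congrFun hgT i) j
    rw [Matrix.smul_apply, Matrix.smul_apply, smul_eq_mul, smul_eq_mul] at h5
    rw [mul_right_cancel₀ hij h5, ← Units.val_mul, mul_inv_cancel, Units.val_one]
  by_cases hσ1 : σ = 1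
  · subst hσ1
    have h4 : g.1.map (1 : RingAut F) = g.1 := by
      ext i j
      rfl
    rw [h4] at hgT
    have h5 : (u : F) * u = 1 := hcc
    refine ⟨g, hσσ, rfl, Or.inr ?_⟩
    rcases mul_self_eq_one_iff.1 h5 with h6 | h6
    · left
      refine ⟨rfl, ?_⟩
      rw [hgT, Units.val_inv_eq_inv_val, h6, inv_one, one_smul]
    · have h7 : g.1ᵀ = -g.1 := by
        rw [hgT, Units.val_inv_eq_inv_val, h6, inv_neg, inv_one, neg_smul, one_smul]
      by_cases h8 : (2 : F) = 0
      · left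
        refine ⟨rfl, ?_⟩
        rw [h7]
        ext i j
        have h9 : g.1 i j + g.1 i j = 0 := by rw [← two_mul, h8, zero_mul]
        exact neg_eq_of_add_eq_zero_left h9
      · right
        refine ⟨rfl, h7, fun i => ?_⟩
        have h9 := congrFun (congrFun h7 i) i
        rw [transpose_apply, neg_apply] at h9
        have h10 : (2 : F) * g.1 i i = 0 := by
          rw [two_mul]
          nth_rewrite 1 [h9]
          exact neg_add_cancel _
        exact (mul_eq_zero.1 h10).resolve_left h8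
  · have hord : orderOf σ = 2 := orderOf_eq_prime (by rw [pow_two, hσ]) hσ1
    obtain ⟨y, hy0, hy⟩ := Cfsg.Agent.H989.Gs.Row.hilbert (σ := σ) u.ne_zero (by rw [hord]; norm_num) (by
      rw [hord, Finset.prod_range_succ, Finset.prod_range_one, pow_zero, pow_one]
      exact hcc)
    refine ⟨scal n F (Units.mk0 y hy0)⁻¹ * g, hσσ, by rw [map_mul, Psi_scal, one_mul], Or.inl ⟨hσ1, ?_⟩⟩
    have h4 : (scal n F (Units.mk0 y hy0)⁻¹ * g).1 = y⁻¹ • g.1 := by
      change scalar (Fin n) (((Units.mk0 y hy0)⁻¹ : Fˣ) : F) * g.1 = _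
      rw [scalar_apply, ← smul_eq_diagonal_mul, Units.val_inv_eq_inv_val, Units.val_mk0]
    rw [h4]
    have h5 : ((y⁻¹ • g.1).map σ)ᵀ = σ y⁻¹ • (g.1.map σ)ᵀ := by
      ext i j
      rw [transpose_apply, Matrix.map_apply, Matrix.smul_apply, smul_eq_mul, map_mul, Matrix.smul_apply,
        transpose_apply, Matrix.map_apply, smul_eq_mul]
    rw [h5, hgT, smul_smul, Units.val_inv_eq_inv_val]
    congr 1
    have h6 : σ y ≠ 0 := by simpa using hy0
    rw [map_inv₀, ← mul_inv, mul_comm, hy]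

/-- **the automorphisms of prime order of `PSL_n(F)`** -/
theorem conv (hn : 3 ≤ n) (x : MulAut (Matrix.ProjectiveSpecialLinearGroup (Fin n) F)) (hx : (orderOf x).Prime) :
    (∃ g : GL (Fin n) F, x = Cfsg.Agent.H199.PslAut.Psi n F g) ∨
    (∃ (b : GL (Fin n) F) (σ : F ≃+* F), σ ≠ 1 ∧ x = lift (cj b * fld σ * (cj b)⁻¹)) ∨
    (∃ (h : GL (Fin n) F) (σ : F ≃+* F), (∀ x, σ (σ x) = x) ∧ x = lift (cj h * fld σ * itr) ∧
      ((σ ≠ 1 ∧ (h.1.map σ)ᵀ = h.1) ∨ (σ = 1 ∧ h.1ᵀ = h.1) ∨ (σ = 1 ∧ h.1ᵀ = -h.1 ∧ ∀ i, h.1 i i = 0))) := by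
  rcases exists_form (by omega) x with ⟨g, σ, rfl⟩ | ⟨-, g, σ, rfl⟩
  · by_cases hσ : σ = 1
    · left
      exact ⟨g, by rw [hσ, map_one, mul_one]⟩
    · right
      left
      obtain ⟨b, hb⟩ := conv_semi (by omega) hσ hx
      refine ⟨b, σ, hσ, ?_⟩
      rw [hb, map_mul, map_mul, map_inv]
      rfl
  · right
    right
    obtain ⟨h, h1, h2, h3⟩ := conv_graph hn hx
    refine ⟨h, σ, h1, ?_, h3⟩
    rw [h2, map_mul, map_mul]
    rfl

end Cfsg.Agent.H915.GsConv
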