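import Cfsg.Agent.H441.GS.OppGen
import Cfsg.Agent.KFacts.RgdSL

/-!
# S4327, type `G₂`: the Weyl group element of maximal displacement (helper915)

nodes `s` (short), `l` (long), `A s l = -3`, `A l s = -1`.

* `dich` : `rep w r = -r` for the highest root `r = 3 s + 2 l`, or `rep w l = l` and `rep w s ≤ 0`.
-/

set_option autoImplicit false
set_option linter.unusedSectionVars false

namespace Cfsg.Agent.H915.HexDich

open CoxeterSystem Cfsg.Agent.ChevalleyStructure.CoxeterGeom Cfsg.Agent.Tits.Roots Cfsg.Agent.Tits.Core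
  Cfsg.Agent.Nodes.Reps Cfsg.Agent.Nodes.BNOf Cfsg.Agent.Nodes.Coroot Cfsg.Agent.Nodes.PosPair
open Cfsg.Agent.H441.GS Cfsg.Agent.KFacts.RgdSL

variable {I W : Type*} [Fintype I] [DecidableEq I] [Group W] [Finite W] {M : CoxeterMatrix I}
  {cs : CoxeterSystem M W} {A : I → I → ℤ} {h : IsCartan M A} {s l : I}

theorem pairing_sr' (i j : I) : pairing A i (sr j) = A i j := by
  unfold pairing sr
  simp [Pi.single_apply]

theorem dich (hsl : s ≠ l) (hI : ∀ i, i = s ∨ i = l) (h3 : A s l = -3) (h1 : A l s = -1) {w : W} (hw : w ≠ 1)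
    (H : ∀ i, rep cs h w (sr i) = sr i ∨ rep cs h w (sr i) ≤ 0) :
    rep cs h w ((3 : ℤ) • sr s + (2 : ℤ) • sr l) = -((3 : ℤ) • sr s + (2 : ℤ) • sr l) ∨
      (rep cs h w (sr l) = sr l ∧ rep cs h w (sr s) ≤ 0) := by
  have hw2 : w * w = 1 := sq_eq_one H
  have huniv : (Finset.univ : Finset I) = {s, l} := by
    ext i
    simpa using hI i
  have hsum : ∀ x : I → ℤ, x = x s • sr s + x l • sr l := by
    intro x
    conv_lhs => rw [Cfsg.Agent.KFacts.RgdPar.eq_sum_sr x, huniv, Finset.sum_pair hsl]
  have hss : (sr s : I → ℤ) s = 1 := by unfold sr; simp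
  have hsl' : (sr s : I → ℤ) l = 0 := by unfold sr; simp [hsl.symm]
  have hls' : (sr l : I → ℤ) s = 0 := by unfold sr; simp [hsl]
  have hll : (sr l : I → ℤ) l = 1 := by unfold sr; simp
  have rs := isRoot_sr cs h s
  have rl := isRoot_sr cs h l
  have hinv : ∀ x, rep cs h w (rep cs h w x) = x := fun x => by
    rw [← rep_mul_apply, hw2, map_one, Module.End.one_apply]
  obtain ⟨a, ha⟩ : ∃ a, a = -(rep cs h w (sr s)) s := ⟨_, rfl⟩
  obtain ⟨b, hb⟩ : ∃ b, b = -(rep cs h w (sr s)) l := ⟨_, rfl⟩
  obtain ⟨c, hc⟩ : ∃ c, c = -(rep cs h w (sr l)) s := ⟨_, rfl⟩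
  obtain ⟨d, hd⟩ : ∃ d, d = -(rep cs h w (sr l)) l := ⟨_, rfl⟩
  have es : rep cs h w (sr s) = (-a) • sr s + (-b) • sr l := by
    rw [ha, hb, neg_neg, neg_neg]; exact hsum _
  have el : rep cs h w (sr l) = (-c) • sr s + (-d) • sr l := by
    rw [hc, hd, neg_neg, neg_neg]; exact hsum _
  have hcprl : cpr cs h (sr l) (sr s) = -3 := by rw [cpr_sr, pairing_sr', h3]
  have hcprs : cpr cs h (sr s) (sr l) = -1 := by rw [cpr_sr, pairing_sr', h1]
  have hcprss : cpr cs h (sr s) (sr s) = 2 := cpr_self cs h rs
  -- `w² = 1` in coordinates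
  have q1 := congrArg (rep cs h w) el
  rw [hinv, map_add, map_smul, map_smul, es, el] at q1
  have q1l := congrFun q1 l
  have q1s := congrFun q1 s
  simp only [Pi.add_apply, Pi.smul_apply, smul_eq_mul, hss, hsl', hls', hll] at q1l q1s
  have q2 := congrArg (rep cs h w) es
  rw [hinv, map_add, map_smul, map_smul, es, el] at q2
  have q2l := congrFun q2 l
  have q2s := congrFun q2 s
  simp only [Pi.add_apply, Pi.smul_apply, smul_eq_mul, hss, hsl', hls', hll] at q2l q2s
  by_cases hfl : rep cs h w (sr l) = sr l
  · right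
    refine ⟨hfl, ?_⟩
    rcases H s with h2 | h2
    · exfalso
      apply hw
      apply eq_one_of_nonneg cs h
      intro i
      change 0 ≤ rep cs h w (sr i)
      rcases hI i with rfl | rfl
      · rw [h2]; exact sr_nonneg _
      · rw [hfl]; exact sr_nonneg _
    · exact h2
  · left
    have hl0 := (H l).resolve_left hfl
    have hc0 : 0 ≤ c := by rw [hc]; have := hl0 s; simp only [Pi.zero_apply] at this; omega
    have hd0 : 0 ≤ d := by rw [hd]; have := hl0 l; simp only [Pi.zero_apply] at this; omega
    rcases H s with h2 | h2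
    · -- `w s = s`
      have hb0 : b = 0 := by rw [hb, h2, hsl', neg_zero]
      have ha1 : a = -1 := by rw [ha, h2, hss]
      have hd1 : d = 1 := by
        rw [hb0] at q1l
        have : d * d = 1 := by linarith
        nlinarith
      have h4 : cpr cs h (rep cs h w (sr l)) (rep cs h w (sr s)) = -3 := by rw [cpr_rep cs h w _ rs, hcprl]
      rw [h2, el, cpr_add cs h _ _ rs, cpr_smul cs h _ _ rs, cpr_smul cs h _ _ rs, hcprss, hcprl] at h4
      have hc3 : c = 3 := by rw [hd1] at h4; linarith
      rw [map_add, map_smul, map_smul, h2, el, hc3, hd1]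
      module
    · have ha0 : 0 ≤ a := by rw [ha]; have := h2 s; simp only [Pi.zero_apply] at this; omega
      have hb0 : 0 ≤ b := by rw [hb]; have := h2 l; simp only [Pi.zero_apply] at this; omega
      -- `a² + b c = 1` etc.
      have k1 : a * a + b * c = 1 := by linarith
      have k2 : b * (a + d) = 0 := by linarith
      have k3 : c * (a + d) = 0 := by linarith
      have k4 : b * c + d * d = 1 := by linarith
      by_cases had : a + d = 0
      · exfalso
        have ha' : a = 0 := by omega
        have hd' : d = 0 := by omega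
        subst ha' hd'
        have hbc : b * c = 1 := by linarith
        have hb1 : b = 1 := by
          have hb' : 0 < b := by
            rcases hb0.lt_or_eq with h5 | h5
            · exact h5
            · rw [← h5, zero_mul] at hbc; omega
          have hc' : 0 < c := by
            rcases hc0.lt_or_eq with h5 | h5
            · exact h5
            · rw [← h5, mul_zero] at hbc; omega
          nlinarith
        have hc1 : c = 1 := by rw [hb1, one_mul] at hbc; exact hbc
        have h4 : cpr cs h (rep cs h w (sr l)) (rep cs h w (sr s)) = -3 := by rw [cpr_rep cs h w _ rs, hcprl]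
        have e1 : rep cs h w (sr l) = -sr s := by rw [el, hc1]; module
        have e2 : rep cs h w (sr s) = -sr l := by rw [es, hb1]; module
        rw [e1, e2, cpr_neg_left _ rl.neg, cpr_neg_right cs h _ rl, hcprs] at h4
        norm_num at h4
      · have hb' : b = 0 := (mul_eq_zero.1 k2).resolve_right had
        have hc' : c = 0 := (mul_eq_zero.1 k3).resolve_right had
        have ha1 : a = 1 := by rw [hb', zero_mul, add_zero] at k1; nlinarith
        have hd1 : d = 1 := by rw [hb', zero_mul, zero_add] at k4; nlinarith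
        rw [map_add, map_smul, map_smul, es, el, hb', hc', ha1, hd1]
        module

end Cfsg.Agent.H915.HexDich
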