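import Cfsg.Agent.H340.Gs.R3
import Cfsg.Agent.H974.Gs.Start
import Cfsg.Agent.H974.Gs.Dich
import Cfsg.Agent.H199.PslAut

/-!
# S4327: linear automorphisms of `PSL_n(F)`, two conjugates and the prime three (helper915)

`r3` : for a non-scalar `g ∈ GL_n(F)`, `n ≥ 4`, two conjugates of `Psi n F g` generate a group of order divisible by
three.
-/

set_option autoImplicit false

namespace Cfsg.Agent.H915.SLThree

open Matrix Cfsg.Agent.H915.Gs Cfsg.Agent.H127.Gs Cfsg.Agent.H974.Gs Cfsg.Agent.H199.PslAut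
open Cfsg.Agent.ClassicalGeometry.AutPSL.Root (pr pr_eq_one_iff)

variable {F : Type*} [Field F] {n : ℕ}

/-- a common zero of few functionals -/
theorem exists_zero {ι κ : Type*} [Fintype ι] [Fintype κ] (h : Fintype.card κ < Fintype.card ι) (B : Matrix κ ι F) :
    ∃ w : ι → F, w ≠ 0 ∧ B *ᵥ w = 0 := by
  have h1 := LinearMap.ker_ne_bot_of_finrank_lt (f := Matrix.mulVecLin B) (by
    rw [Module.finrank_fintype_fun_eq_card, Module.finrank_fintype_fun_eq_card]
    exact h)
  obtain ⟨w, hw, hw0⟩ := Submodule.exists_mem_ne_zero_of_ne_bot h1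
  exact ⟨w, hw0, hw⟩

/-- an element with a fixed vector which is central is trivial -/
theorem eq_one_of_central {s : Matrix.SpecialLinearGroup (Fin n) F} (hs : pr s = 1) {w : Fin n → F} (hw : w ≠ 0)
    (hf : (s : Matrix (Fin n) (Fin n) F) *ᵥ w = w) : s = 1 := by
  rw [pr_eq_one_iff, Matrix.SpecialLinearGroup.mem_center_iff] at hs
  obtain ⟨r, -, hr⟩ := hs
  rw [← hr, scalar_apply] at hf
  have hr1 : r = 1 := by
    obtain ⟨i, hi⟩ := Function.ne_iff.1 hw
    have h1 := congrFun hf i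
    rw [mulVec_diagonal] at h1
    exact mul_right_cancel₀ hi (h1.trans (one_mul _).symm)
  apply sl_ext
  rw [← hr, hr1, scalar_apply, diagonal_one]
  rfl

theorem cj_eq_glc (g : GL (Fin n) F) (s : Matrix.SpecialLinearGroup (Fin n) F) :
    Cfsg.Agent.ClassicalGeometry.AutPSL.Auto.cj g s = glc g s := by
  apply sl_ext
  rw [Cfsg.Agent.ClassicalGeometry.AutPSL.Auto.coe_cj, coe_glc]

theorem commute_tv {v f w h : Fin n → F} (h1 : f ⬝ᵥ v = 0) (h2 : h ⬝ᵥ w = 0) (h3 : f ⬝ᵥ w = 0) (h4 : h ⬝ᵥ v = 0) :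
    Commute (tv v f) (tv w h) := by
  have h5 := conj_tv_tv h1 h2
  rw [h3, zero_smul, add_zero, h4, zero_smul, sub_zero] at h5
  exact mul_inv_eq_iff_eq_mul.1 h5

theorem r3 [Fintype F] (hn : 4 ≤ n) {g : GL (Fin n) F}
    (hns : ∃ v : Fin n → F, ∀ μ : F, (g : Matrix (Fin n) (Fin n) F) *ᵥ v ≠ μ • v)
    (hL : Function.Injective (MulAut.conj : Matrix.ProjectiveSpecialLinearGroup (Fin n) F →*
      MulAut (Matrix.ProjectiveSpecialLinearGroup (Fin n) F))) : Ord (Psi n F g) 2 3 := by
  have hfin : Finite (Matrix.ProjectiveSpecialLinearGroup (Fin n) F) := Quotient.finite _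
  have hx : ∀ s : Matrix.SpecialLinearGroup (Fin n) F, pr (glc g s) = Psi n F g (pr s) := fun s => by
    rw [Psi_pr, cj_eq_glc]
  by_cases h3 : (3 : F) = 0
  · -- characteristic three
    obtain ⟨v, hv⟩ := hns
    have hv0 : v ≠ 0 := by
      rintro rfl
      exact hv 0 (by rw [mulVec_zero, smul_zero])
    set gv : Fin n → F := (g : Matrix (Fin n) (Fin n) F) *ᵥ v with hgv
    obtain ⟨f, hf0, hf⟩ := exists_zero (F := F) (ι := Fin n) (κ := Fin 3) (by simp; omega)
      (Matrix.of ![v, gv, ((g⁻¹ : GL (Fin n) F) : Matrix (Fin n) (Fin n) F) *ᵥ v])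
    have f0 : f ⬝ᵥ v = 0 := by
      have := congrFun hf 0
      rw [dotProduct_comm]
      exact this
    have f1 : f ⬝ᵥ gv = 0 := by
      have := congrFun hf 1
      rw [dotProduct_comm]
      exact this
    have f2 : f ⬝ᵥ (((g⁻¹ : GL (Fin n) F) : Matrix (Fin n) (Fin n) F) *ᵥ v) = 0 := by
      have := congrFun hf 2
      rw [dotProduct_comm]
      exact this
    set fg : Fin n → F := f ᵥ* ((g⁻¹ : GL (Fin n) F) : Matrix (Fin n) (Fin n) F) with hfg
    have e1 : fg ⬝ᵥ v = 0 := by rw [hfg, ← dotProduct_mulVec, f2]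
    have e2 : fg ⬝ᵥ gv = 0 := by
      rw [hfg, hgv, ← dotProduct_mulVec, mulVec_mulVec, val_inv_mul, one_mulVec, f0]
    have hau : glc g (tv v f) = tv gv fg := glc_tv g f0
    refine Cfsg.Agent.H340.Gs.ord_of_commute hL hx Nat.prime_three (tv v f) ?_ ?_ ?_
    · rw [hau]
      exact (commute_tv f0 e2 f1 e1).map pr
    · rw [← map_pow]
      have h4 : tv v f ^ 3 = 1 := by
        rw [pow_succ, pow_two, ← tv_add_left f0 f0, ← tv_add_left (by rw [dotProduct_add, f0, add_zero]) f0]
        have : v + v + v = 0 := by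
          have : v + v + v = (3 : F) • v := by
            rw [show (3 : F) = 1 + 1 + 1 by norm_num, add_smul, add_smul, one_smul]
          rw [this, h3, zero_smul]
        rw [this, tv_zero_left]
      rw [h4, map_one]
    · intro hcon
      rw [hau, ← mul_inv_eq_one, ← map_inv, ← map_mul, tv_inv f0] at hcon
      obtain ⟨w, hw0, hw⟩ := exists_zero (F := F) (ι := Fin n) (κ := Fin 2) (by simp; omega) (Matrix.of ![f, fg])
      have w0 : f ⬝ᵥ w = 0 := congrFun hw 0
      have w1 : fg ⬝ᵥ w = 0 := congrFun hw 1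
      have h5 : tv gv fg * tv (-v) f = 1 := by
        refine eq_one_of_central hcon hw0 ?_
        have f0' : f ⬝ᵥ (-v) = 0 := by rw [dotProduct_neg, f0, neg_zero]
        rw [Matrix.SpecialLinearGroup.coe_mul, ← mulVec_mulVec, tv_mulVec f0', w0,
          zero_smul, add_zero, tv_mulVec e2, w1, zero_smul, add_zero]
      have h6 : tv gv fg = tv v f := by
        rw [← tv_inv f0] at h5
        exact mul_inv_eq_one.1 h5
      obtain ⟨y, hy⟩ : ∃ y : Fin n → F, f ⬝ᵥ y ≠ 0 := by
        by_contra hcon'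
        push Not at hcon'
        apply hf0
        funext i
        have := hcon' (Pi.single i 1)
        rwa [dotProduct_single_one] at this
      have h7 : (fg ⬝ᵥ y) • gv = (f ⬝ᵥ y) • v := by
        have h8 := congrArg (fun s : Matrix.SpecialLinearGroup (Fin n) F => (s : Matrix (Fin n) (Fin n) F) *ᵥ y) h6
        rw [tv_mulVec e2, tv_mulVec f0] at h8
        exact add_left_cancel h8
      have h9 : fg ⬝ᵥ y ≠ 0 := by
        intro h
        rw [h, zero_smul] at h7
        exact (smul_ne_zero hy hv0) h7.symm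
      apply hv ((fg ⬝ᵥ y)⁻¹ * (f ⬝ᵥ y))
      rw [mul_smul, ← h7, smul_smul, inv_mul_cancel₀ h9, one_smul]
  · obtain ⟨c, hc, A, B, hBA, hP⟩ : ∃ c : F, c ≠ 0 ∧ Pr g c := by
      rcases exists_three_or_quadratic (Matrix.mulVecLin (g : Matrix (Fin n) (Fin n) F)) with ⟨v, hv⟩ | ⟨α, β, hquad⟩
      · exact ⟨1, one_ne_zero, pr_of_three g hv one_ne_zero⟩
      · replace hquad : ∀ v : Fin n → F, (g : Matrix (Fin n) (Fin n) F) *ᵥ ((g : Matrix (Fin n) (Fin n) F) *ᵥ v) =
          α • ((g : Matrix (Fin n) (Fin n) F) *ᵥ v) + β • v := hquad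
        have hβ : β ≠ 0 := by
          rintro rfl
          obtain ⟨v, hv⟩ := hns
          have h1 := hquad v
          rw [zero_smul, add_zero, ← mulVec_smul] at h1
          have h2 := congrArg (fun y => ((g⁻¹ : GL (Fin n) F) : Matrix (Fin n) (Fin n) F) *ᵥ y) h1
          simp only [inv_mulVec] at h2
          exact hv α h2
        exact ⟨β⁻¹, inv_ne_zero hβ, pr_of_quad g hβ hquad hns⟩
    refine Cfsg.Agent.H340.Gs.ord_of_opp hL hx h3 hc (σ := RingHom.id F) (Or.inl ⟨1, odd_one, fun y => rfl⟩)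
      (emb A B hBA) ?_ ?_
    · intro t M N hM hN
      have h4 : M = Ut t := sl_ext (hM.trans (coe_Ut t).symm)
      have h5 : N = Lt (c * t) := sl_ext (hN.trans (coe_Lt (c * t)).symm)
      rw [h4, h5, hP]
    · intro M hM hcon
      obtain ⟨w, hw0, hw⟩ := exists_zero (F := F) (ι := Fin n) (κ := Fin 2) (by simp; omega) B
      have h4 := eq_one_of_central hcon hw0 (by
        rw [coe_emb, add_mulVec, one_mulVec, ← mulVec_mulVec, hw, mulVec_zero, add_zero])
      have h5 : M = 1 := emb_injective hBA (h4.trans (map_one _).symm)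
      rw [h5, orderOf_one] at hM
      norm_num at hM

end Cfsg.Agent.H915.SLThree
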