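import Cfsg.Agent.H915.Gs.Concl
import Cfsg.Agent.H915.Gs.RowTwo
import Cfsg.Agent.H974.Gs.RowFin
import Cfsg.Agent.H453.Gs.Main
import Cfsg.Agent.H914.Gs.SpFinal
import Cfsg.Agent.H929.Gs.Row
import Cfsg.Agent.H100.Gs.RowOmega

/-!
# S4327: the rows of the classical groups (helper915)

`psl` (helper453, 974, 922, 915), `psp` (helper914), `psu` (helper929, 405), `pOmegaOdd`, `pOmegaPlus`, `pOmegaMinus`
(helper445, 100, 989, 660, 919).
-/

set_option autoImplicit false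

namespace Cfsg.Agent.H915.GsFields

open Cfsg.Agent.H915.Gs

variable {L : Type*} [Group L]

/-- an abelian group -/
theorem row_of_comm (h : IsMulCommutative L) : Row L := by
  intro r x _ _ _
  refine Or.inl ⟨fun _ => 1, ?_⟩
  rintro _ ⟨g, -, rfl⟩
  have h1 : MulAut.conj g = 1 := by
    ext y
    rw [MulAut.conj_apply, MulAut.one_apply, h.is_comm.comm g y, mul_inv_cancel_right]
  rw [h1]
  exact one_mem _

theorem psl [IsSimpleGroup L] (h : Cfsg.IsPSL L) : Row L := by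
  by_cases hab : IsMulCommutative L
  · exact row_of_comm hab
  · exact Cfsg.Agent.H974.Gs.row_isPSL hab h (fun F _ _ h4 => row_two h4)
      fun F _ _ n hn => Cfsg.Agent.H453.Gs.nonlin hn

theorem psp (h : Cfsg.IsPSp L) : Row L := by
  obtain ⟨F, i1, i2, m, h1, h2, ⟨e⟩⟩ := h
  exact Row.congr e.symm (Cfsg.Agent.H914.Gs.row_psp F m h1 h2)

theorem psu (h : Cfsg.IsPSU L) : Row L := by
  obtain ⟨F, i1, i2, n, q, h1, h2, h3, ⟨e⟩⟩ := h
  exact Row.congr e.symm (Cfsg.Agent.H929.Gs.row_psu h1 h2 h3)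

theorem pOmegaOdd (h : Cfsg.IsPOmegaOdd L) : Row L := by
  obtain ⟨F, i1, i2, m, h1, h2, ⟨e⟩⟩ := h
  exact Row.congr e.symm (Cfsg.Agent.H100.Gs.omega_odd F m h1 h2)

theorem pOmegaPlus (h : Cfsg.IsPOmegaPlus L) : Row L := by
  obtain ⟨F, i1, i2, m, h1, ⟨e⟩⟩ := h
  exact Row.congr e.symm (Cfsg.Agent.H100.Gs.omega_plus F m h1)

theorem pOmegaMinus (h : Cfsg.IsPOmegaMinus L) : Row L := by
  obtain ⟨F, i1, i2, m, a, b, h1, h2, ⟨e⟩⟩ := h
  exact Row.congr e.symm (Cfsg.Agent.H100.Gs.omega_minus F m a b h1 h2)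

end Cfsg.Agent.H915.GsFields
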