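import Cfsg.Agent.H915.Gs.WOrd
import Cfsg.Agent.S0799
import Cfsg.Agent.H368.PGLSpec
import Cfsg.Agent.ClassicalGeometry.PSL2Solvable

/-!
# Two elements of `SL(2,q)` which generate (helper915), S4327

`gen_of` : `A, B : SL(2,F)`, `|F| = q ≥ 4`, `A B ≠ B A`, `pr B` of order at least 3, `pr A` of order `k ≥ 6` (or `q = 4`),
`k = (q+1)/d`, or `q` odd, `k = (q-1)/2` and the trace of the commutator is not `±2`: then `⟨A,B⟩ = SL(2,F)`.
-/

set_option autoImplicit false

namespace Cfsg.Agent.H915.Gs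

open Matrix Cfsg.Agent.LieClassical.SLTwoUnipotent Cfsg.Agent.H390.PslSpec Cfsg.Agent.ClassicalGeometry

variable {F : Type*} [Field F]

/-- powers of an upper triangular matrix -/
theorem borel_pow {A : SpecialLinearGroup (Fin 2) F} (h : A 1 0 = 0) (n : ℕ) :
    (A ^ n) 1 0 = 0 ∧ (A ^ n) 0 0 = (A 0 0) ^ n := by
  induction n with
  | zero => simp
  | succ n ih =>
    have h0 : A.1 1 0 = 0 := h
    have i1 : (A ^ n).1 1 0 = 0 := ih.1
    have i2 : (A ^ n).1 0 0 = (A.1 0 0) ^ n := ih.2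
    have e : (A ^ (n + 1)).1 = (A ^ n).1 * A.1 := by rw [pow_succ]; exact coe_mul _ _
    constructor
    · change (A ^ (n + 1)).1 1 0 = 0
      rw [e, Matrix.mul_apply, Fin.sum_univ_two, i1, h0]
      ring
    · change (A ^ (n + 1)).1 0 0 = (A.1 0 0) ^ (n + 1)
      rw [e, Matrix.mul_apply, Fin.sum_univ_two, i2, h0]
      ring

theorem u_pow (x : F) (n : ℕ) : (u x : SpecialLinearGroup (Fin 2) F) ^ n = u (n * x) := by
  induction n with
  | zero => rw [pow_zero, Nat.cast_zero, zero_mul, u_zero]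
  | succ n ih => rw [pow_succ, ih, ← u_add]; congr 1; push_cast; ring

theorem eq_u {A : SpecialLinearGroup (Fin 2) F} (h : A 1 0 = 0) (h0 : A 0 0 = 1) : A = u (A 0 1) := by
  have hd := A.2
  rw [Matrix.det_fin_two] at hd
  have h1 : (A : Matrix (Fin 2) (Fin 2) F) 1 0 = 0 := h
  have h2 : (A : Matrix (Fin 2) (Fin 2) F) 0 0 = 1 := h0
  apply Subtype.ext
  rw [coe_u]
  ext i j
  fin_cases i <;> fin_cases j
  · simpa using h2
  · simp
  · simpa using h1
  · have : (A : Matrix (Fin 2) (Fin 2) F) 1 1 = 1 := by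
      have e1 : A.1 0 0 = 1 := h2
      have e2 : A.1 1 0 = 0 := h1
      rw [e1, e2] at hd
      linear_combination hd
    simpa using this

section

variable [Fintype F] {p : ℕ} [hp : Fact p.Prime] [hcp : CharP F p]

include hp hcp in
theorem borel_pow_eq_one {A : SpecialLinearGroup (Fin 2) F} (h : A 1 0 = 0) : A ^ ((Fintype.card F - 1) * p) = 1 := by
  have h1 := borel_pow h (Fintype.card F - 1)
  have ha : (A 0 0 : F) ≠ 0 := by
    intro h0
    have hd := A.2
    rw [Matrix.det_fin_two] at hd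
    have h1 : A.1 1 0 = 0 := h
    have h2 : A.1 0 0 = 0 := h0
    rw [h1, h2] at hd
    simp at hd
  have h2 : (A ^ (Fintype.card F - 1)) 0 0 = 1 := by rw [h1.2, FiniteField.pow_card_sub_one_eq_one _ ha]
  rw [pow_mul, eq_u h1.1 h2, u_pow, CharP.cast_eq_zero, zero_mul, u_zero]

/-- the commutator of upper triangular matrices is unipotent -/
theorem borel_comm {A B : SpecialLinearGroup (Fin 2) F} (hA : A 1 0 = 0) (hB : B 1 0 = 0) :
    ∃ x, A * B * A⁻¹ * B⁻¹ = u x := by
  have hdA := A.2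
  have hdB := B.2
  rw [Matrix.det_fin_two] at hdA hdB
  have h1 : A.1 1 0 = 0 := hA
  have h2 : B.1 1 0 = 0 := hB
  rw [h1] at hdA
  rw [h2] at hdB
  have hAi : ((A⁻¹ : SpecialLinearGroup (Fin 2) F) : Matrix (Fin 2) (Fin 2) F) =
      !![A.1 1 1, -A.1 0 1; -A.1 1 0, A.1 0 0] := by
    change Matrix.adjugate A.1 = _
    rw [Matrix.adjugate_fin_two]
  have hBi : ((B⁻¹ : SpecialLinearGroup (Fin 2) F) : Matrix (Fin 2) (Fin 2) F) =
      !![B.1 1 1, -B.1 0 1; -B.1 1 0, B.1 0 0] := by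
    change Matrix.adjugate B.1 = _
    rw [Matrix.adjugate_fin_two]
  have hc : ((A * B * A⁻¹ * B⁻¹ : SpecialLinearGroup (Fin 2) F) : Matrix (Fin 2) (Fin 2) F) =
      A.1 * B.1 * !![A.1 1 1, -A.1 0 1; -A.1 1 0, A.1 0 0] * !![B.1 1 1, -B.1 0 1; -B.1 1 0, B.1 0 0] := by
    rw [coe_mul, coe_mul, coe_mul, hAi, hBi]
  have e1 : (A * B * A⁻¹ * B⁻¹) 1 0 = 0 := by
    change ((A * B * A⁻¹ * B⁻¹ : SpecialLinearGroup (Fin 2) F) : Matrix (Fin 2) (Fin 2) F) 1 0 = 0
    rw [hc]
    simp [Matrix.mul_apply, Fin.sum_univ_two, h1, h2]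
  have e2 : (A * B * A⁻¹ * B⁻¹) 0 0 = 1 := by
    change ((A * B * A⁻¹ * B⁻¹ : SpecialLinearGroup (Fin 2) F) : Matrix (Fin 2) (Fin 2) F) 0 0 = 1
    rw [hc]
    simp only [Matrix.mul_apply, Fin.sum_univ_two, h1, h2]
    simp
    linear_combination (B.1 0 0 * B.1 1 1) * hdA + hdB
  exact ⟨_, eq_u e1 e2⟩

end

/-! ### the list of Dickson -/

section

variable [Fintype F] {p : ℕ} [hp : Fact p.Prime] [hcp : CharP F p]

/-- a rotation of the dihedral group -/
theorem dihedral_rot {n : ℕ} {x : DihedralGroup n} (hx : x ^ 2 ≠ 1) : ∃ i, x = DihedralGroup.r i := by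
  rcases x with i | i
  · exact ⟨i, rfl⟩
  · exfalso
    apply hx
    rw [sq, DihedralGroup.sr_mul_self]

theorem alt_four_order : ∀ x : alternatingGroup (Fin 4), x ^ 2 = 1 ∨ x ^ 3 = 1 := by decide +kernel

theorem perm_four_order : ∀ x : Equiv.Perm (Fin 4), x ^ 2 = 1 ∨ x ^ 3 = 1 ∨ x ^ 4 = 1 := by decide +kernel

theorem alt_five_order : ∀ x : alternatingGroup (Fin 5), x ^ 2 = 1 ∨ x ^ 3 = 1 ∨ x ^ 5 = 1 := by decide +kernel

/-- `SL(2,q)`, `q ≥ 4`, is generated by every subgroup which covers `PSL(2,q)` -/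
theorem eq_top_of_map (h4 : 4 ≤ Fintype.card F) {X : Subgroup (SpecialLinearGroup (Fin 2) F)}
    (h : X.map (pr F) = ⊤) : X = ⊤ := by
  have hp : commutator (SpecialLinearGroup (Fin 2) F) = ⊤ := by
    classical
    obtain ⟨g, hg⟩ := IsCyclic.exists_generator (α := Fˣ)
    have hord : orderOf (g : F) = Fintype.card F - 1 := by
      rw [orderOf_units, orderOf_eq_card_of_forall_mem_zpowers hg, Nat.card_eq_fintype_card, Fintype.card_units]
    refine SL2.commutator_eq_top g.ne_zero (a := (g : F)) ?_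
    intro h2
    have := Nat.le_of_dvd (by norm_num) (orderOf_dvd_of_pow_eq_one h2)
    omega
  have hX : X ⊔ Subgroup.center (SpecialLinearGroup (Fin 2) F) = ⊤ := by
    have h1 : X ⊔ (pr F).ker = ⊤ := by
      rw [← Subgroup.comap_map_eq, h, Subgroup.comap_top]
    have h2 : (pr F).ker = Subgroup.center (SpecialLinearGroup (Fin 2) F) := QuotientGroup.ker_mk' _
    rwa [h2] at h1
  rw [eq_top_iff, ← hp, commutator_def, Subgroup.commutator_le]
  intro a _ b _
  have ha : a ∈ X ⊔ Subgroup.center (SpecialLinearGroup (Fin 2) F) := by rw [hX]; trivial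
  have hb : b ∈ X ⊔ Subgroup.center (SpecialLinearGroup (Fin 2) F) := by rw [hX]; trivial
  obtain ⟨x, hx, z, hz, rfl⟩ := Subgroup.mem_sup_of_normal_right.1 ha
  obtain ⟨y, hy, w, hw, rfl⟩ := Subgroup.mem_sup_of_normal_right.1 hb
  have hz' : ∀ g, g * z = z * g := Subgroup.mem_center_iff.1 hz
  have hw' : ∀ g, g * w = w * g := Subgroup.mem_center_iff.1 hw
  have e : x * z * (y * w) * (x * z)⁻¹ * (y * w)⁻¹ = x * y * x⁻¹ * y⁻¹ := by
    rw [_root_.mul_inv_rev, _root_.mul_inv_rev]
    have h1 : x * z * (y * w) * (z⁻¹ * x⁻¹) * (w⁻¹ * y⁻¹) = x * z * y * (w * (z⁻¹ * x⁻¹)) * w⁻¹ * y⁻¹ := by group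
    rw [h1, ← hw' (z⁻¹ * x⁻¹)]
    have h2 : x * z * y * (z⁻¹ * x⁻¹ * w) * w⁻¹ * y⁻¹ = x * (z * y) * z⁻¹ * x⁻¹ * y⁻¹ := by group
    rw [h2, ← hz' y]
    group
  change x * z * (y * w) * (x * z)⁻¹ * (y * w)⁻¹ ∈ X
  rw [e]
  exact mul_mem (mul_mem (mul_mem hx hy) (inv_mem hx)) (inv_mem hy)

/-- `A B = - B A` gives trace zero -/
theorem tr_eq_zero (h2 : (2 : F) ≠ 0) {A B : SpecialLinearGroup (Fin 2) F}
    (h : (A : Matrix (Fin 2) (Fin 2) F) * B = -(B * A)) : tr (A : Matrix (Fin 2) (Fin 2) F) = 0 := by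
  have hb : (B : Matrix (Fin 2) (Fin 2) F) * (B : Matrix (Fin 2) (Fin 2) F).adjugate = 1 := by
    rw [Matrix.mul_adjugate, B.2, one_smul]
  have h1 : (A : Matrix (Fin 2) (Fin 2) F) = -(B * A * (B : Matrix (Fin 2) (Fin 2) F).adjugate) := by
    rw [← Matrix.neg_mul, ← h, Matrix.mul_assoc, hb, Matrix.mul_one]
  have h3 : Matrix.trace (A : Matrix (Fin 2) (Fin 2) F) = -Matrix.trace (A : Matrix (Fin 2) (Fin 2) F) := by
    conv_lhs => rw [h1, Matrix.trace_neg, Matrix.trace_mul_comm, ← Matrix.mul_assoc]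
    rw [Matrix.adjugate_mul, B.2, one_smul, Matrix.one_mul]
  rw [Matrix.trace_fin_two] at h3
  unfold tr
  have : 2 * ((A : Matrix (Fin 2) (Fin 2) F) 0 0 + (A : Matrix (Fin 2) (Fin 2) F) 1 1) = 0 := by linear_combination h3
  exact (mul_eq_zero.1 this).resolve_left h2

/-- commuting modulo the centre -/
theorem comm_of_pr {A B : SpecialLinearGroup (Fin 2) F} (ha : (pr F A) ^ 2 ≠ 1)
    (h : pr F A * pr F B = pr F B * pr F A) : A * B = B * A := by
  have h1 : pr F (A * B * (B * A)⁻¹) = 1 := by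
    rw [map_mul, map_inv, map_mul, map_mul, h, mul_inv_cancel]
  rw [pr_eq_one_iff] at h1
  rcases h1 with h1 | h1
  · have h2 : A * B * (B * A)⁻¹ = 1 := ext_coe h1
    exact mul_inv_eq_one.1 h2
  · by_cases h2 : (2 : F) = 0
    · have hm : (-1 : F) = 1 := by linear_combination -h2
      have h3 : A * B * (B * A)⁻¹ = 1 := by
        apply ext_coe
        rw [h1]
        ext i j
        fin_cases i <;> fin_cases j <;> simp [hm]
      exact mul_inv_eq_one.1 h3
    · exfalso
      apply ha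
      have h3 : (A : Matrix (Fin 2) (Fin 2) F) * B = -(B * A) := by
        have h4 : ((A * B * (B * A)⁻¹ * (B * A) : SpecialLinearGroup (Fin 2) F) : Matrix (Fin 2) (Fin 2) F) =
            (A * B * (B * A)⁻¹ : SpecialLinearGroup (Fin 2) F) * ((B * A : SpecialLinearGroup (Fin 2) F) :
              Matrix (Fin 2) (Fin 2) F) := rfl
        rw [h1, inv_mul_cancel_right, coe_mul, coe_mul] at h4
        rw [h4, Matrix.neg_mul, Matrix.one_mul]
      have h5 := tr_eq_zero h2 h3
      rw [pr_pow_eq_one_iff, sq, cayley _ A.2, h5, zero_smul, zero_sub]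
      exact Or.inr rfl

include hp hcp in
/-- an element of order `p` modulo the centre has trace `±2` -/
theorem tr_of_pow_p {C : SpecialLinearGroup (Fin 2) F} (h : (pr F C) ^ p = 1) :
    tr (C : Matrix (Fin 2) (Fin 2) F) = 2 ∨ tr (C : Matrix (Fin 2) (Fin 2) F) = -2 := by
  obtain ⟨v, hv0, ht⟩ := root_exists (tr (C : Matrix (Fin 2) (Fin 2) F))
  have : CharP (AlgebraicClosure F) p := charP_of_injective_algebraMap (algebraMap F (AlgebraicClosure F)).injective p
  have hpm : v = 1 ∨ v = -1 := by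
    by_cases hne : v = v⁻¹
    · have : v * v = 1 := by nth_rewrite 2 [hne]; exact mul_inv_cancel₀ hv0
      exact sq_cases this
    · rw [pr_pow_iff C v hv0 ht hne] at h
      have hinj := frobenius_inj (AlgebraicClosure F) p
      rcases h with h | h
      · left
        apply hinj
        rw [frobenius_def, h, frobenius_def, one_pow]
      · right
        apply hinj
        rw [map_neg, map_one, frobenius_def, h]
  rcases hpm with rfl | rfl
  · left
    apply (algebraMap F (AlgebraicClosure F)).injective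
    rw [ht, map_ofNat]; norm_num
  · right
    apply (algebraMap F (AlgebraicClosure F)).injective
    rw [ht, map_neg, map_ofNat]; norm_num

include hp hcp in
/-- the elements of the normaliser of a Sylow subgroup -/
theorem borel_elt {P : Sylow p (Matrix.ProjectiveSpecialLinearGroup (Fin 2) F)}
    {x y : Matrix.ProjectiveSpecialLinearGroup (Fin 2) F}
    (hx : x ∈ Subgroup.normalizer ((P : Subgroup (Matrix.ProjectiveSpecialLinearGroup (Fin 2) F)) :
      Set (Matrix.ProjectiveSpecialLinearGroup (Fin 2) F)))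
    (hy : y ∈ Subgroup.normalizer ((P : Subgroup (Matrix.ProjectiveSpecialLinearGroup (Fin 2) F)) :
      Set (Matrix.ProjectiveSpecialLinearGroup (Fin 2) F))) :
    x ^ ((Fintype.card F - 1) * p) = 1 ∧ (x * y * x⁻¹ * y⁻¹) ^ p = 1 := by
  obtain ⟨g, hg⟩ := PSL2Solvable.exists_le_map_borel p P
  obtain ⟨_, ⟨A, hA, rfl⟩, rfl⟩ := hg hx
  obtain ⟨_, ⟨B, hB, rfl⟩, rfl⟩ := hg hy
  have hA' : A 1 0 = 0 := PSL2Solvable.mem_borel_iff.1 hA
  have hB' : B 1 0 = 0 := PSL2Solvable.mem_borel_iff.1 hB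
  constructor
  · rw [← map_pow, ← map_pow, borel_pow_eq_one (p := p) hA', map_one, map_one]
  · rw [← map_inv, ← map_inv, ← map_inv, ← map_inv, ← map_mul, ← map_mul, ← map_mul, ← map_mul, ← map_mul, ← map_mul,
      ← map_pow, ← map_pow]
    obtain ⟨t, ht⟩ := borel_comm hA' hB'
    rw [ht, u_pow, CharP.cast_eq_zero, zero_mul, u_zero, map_one, map_one]

include hp hcp in
/-- **Two elements which generate `SL(2,q)`.** -/
theorem gen_of (h4 : 4 ≤ Fintype.card F) {A B : SpecialLinearGroup (Fin 2) F} {k : ℕ} (hk : orderOf (pr F A) = k)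
    (hk6 : 6 ≤ k ∨ (Fintype.card F = 4 ∧ k = 5)) (hAB : A * B ≠ B * A) (hB : (pr F B) ^ 2 ≠ 1)
    (hc : k = (Fintype.card F + 1) / dd (Fintype.card F) ∨ (k = (Fintype.card F - 1) / dd (Fintype.card F) ∧
      Odd (Fintype.card F) ∧ tr ((A * B * A⁻¹ * B⁻¹ : SpecialLinearGroup (Fin 2) F) : Matrix (Fin 2) (Fin 2) F) ≠ 2 ∧
      tr ((A * B * A⁻¹ * B⁻¹ : SpecialLinearGroup (Fin 2) F) : Matrix (Fin 2) (Fin 2) F) ≠ -2)) :
    Subgroup.closure {A, B} = ⊤ := by
  classical
  set q := Fintype.card F with hqdef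
  have hk5 : 5 ≤ k := by rcases hk6 with h | h <;> omega
  apply eq_top_of_map h4
  set H : Subgroup (Matrix.ProjectiveSpecialLinearGroup (Fin 2) F) := (Subgroup.closure {A, B}).map (pr F) with hH
  have haH : pr F A ∈ H := ⟨A, Subgroup.subset_closure (by simp), rfl⟩
  have hbH : pr F B ∈ H := ⟨B, Subgroup.subset_closure (by simp), rfl⟩
  let a : H := ⟨pr F A, haH⟩
  let b : H := ⟨pr F B, hbH⟩
  have hoa : orderOf a = k := by rw [← hk]; exact (Subgroup.orderOf_coe a).symm
  have ha2 : (pr F A) ^ 2 ≠ 1 := by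
    intro h
    have := Nat.le_of_dvd (by norm_num) (orderOf_dvd_of_pow_eq_one h)
    omega
  have hnc : a * b ≠ b * a := by
    intro h
    exact hAB (comm_of_pr ha2 (congrArg Subtype.val h))
  obtain ⟨f, hf, hcard⟩ := FiniteField.card F p
  have hpq : p ∣ q := by rw [hqdef, hcard]; exact dvd_pow_self _ f.2.ne'
  -- `k` is prime to `q`
  have hkq : k ∣ q + 1 ∨ k ∣ q - 1 := by
    rcases hc with h | ⟨h, -⟩
    · left
      rw [h]
      exact Nat.div_dvd_of_dvd (dd_dvd_add (by omega))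
    · right
      rw [h]
      exact Nat.div_dvd_of_dvd (dd_dvd_sub _)
  have hcop : Nat.Coprime k q := by
    have h1 : Nat.gcd k q ∣ k := Nat.gcd_dvd_left _ _
    have h2 : Nat.gcd k q ∣ q := Nat.gcd_dvd_right _ _
    rcases hkq with h | h
    · exact Nat.dvd_one.1 ((Nat.dvd_add_right h2).1 (h1.trans h))
    · have h3 : Nat.gcd k q ∣ (q - 1) + 1 := by rwa [Nat.sub_add_cancel (by omega)]
      exact Nat.dvd_one.1 ((Nat.dvd_add_right (h1.trans h)).1 h3)
  have hbig : ∀ n, Nat.Coprime k n → k ∣ n → False := by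
    intro n h1 h2
    have := Nat.Coprime.eq_one_of_dvd h1 h2
    omega
  have hd2 : 2 * k + 1 ≥ q := by
    have hd := dd_cases q
    have e1 : k = (q + 1) / dd q ∨ k = (q - 1) / dd q := by
      rcases hc with h | ⟨h, -⟩
      · exact Or.inl h
      · exact Or.inr h
    rcases hd with h | h <;> rw [h] at e1
    · rw [Nat.div_one, Nat.div_one] at e1; omega
    · have h5 : 2 ∣ q - 1 := h ▸ dd_dvd_sub q
      omega
  rcases Cfsg.Agent.S0799.result (q := q) rfl p H with ⟨k', -, ⟨hcyc, -⟩ | ⟨⟨e⟩⟩⟩ | ⟨P, K, hK, ⟨e⟩⟩ | ⟨⟨e⟩⟩ | ⟨⟨e⟩⟩ |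
    ⟨⟨e⟩⟩ | ⟨K, i1, i2, m, hm, h⟩
  · -- cyclic
    exfalso
    obtain ⟨g, hg⟩ := hcyc.exists_generator
    obtain ⟨i, hi⟩ := hg a
    obtain ⟨j, hj⟩ := hg b
    apply hnc
    rw [← hi, ← hj]
    exact (zpow_add g i j).symm.trans ((congrArg (g ^ ·) (add_comm i j)).trans (zpow_add g j i))
  · -- dihedral
    exfalso
    have h1 : (e a) ^ 2 ≠ 1 := by
      rw [← map_pow]
      intro h
      have h2 : a ^ 2 = 1 := e.injective (by rw [h, map_one])
      exact ha2 (congrArg Subtype.val h2)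
    have h2 : (e b) ^ 2 ≠ 1 := by
      rw [← map_pow]
      intro h
      have h2 : b ^ 2 = 1 := e.injective (by rw [h, map_one])
      exact hB (congrArg Subtype.val h2)
    obtain ⟨i, hi⟩ := dihedral_rot h1
    obtain ⟨j, hj⟩ := dihedral_rot h2
    apply hnc
    apply e.injective
    rw [map_mul, map_mul, hi, hj, DihedralGroup.r_mul_r, DihedralGroup.r_mul_r, add_comm]
  · -- the normaliser of a Sylow subgroup
    exfalso
    have h1 := borel_elt (P := P) (hK (e a).2) (hK (e b).2)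
    have h2 : a ^ ((Fintype.card F - 1) * p) = 1 := by
      apply e.injective
      rw [map_pow, map_one]
      exact Subtype.ext h1.1
    have h3 : (a * b * a⁻¹ * b⁻¹) ^ p = 1 := by
      apply e.injective
      rw [map_pow, map_mul, map_mul, map_mul, map_inv, map_inv, map_one]
      exact Subtype.ext h1.2
    rcases hc with hc | ⟨-, -, hc2, hc3⟩
    · have h4 := orderOf_dvd_of_pow_eq_one h2
      rw [hoa] at h4
      have h5 : Nat.Coprime k p := Nat.Coprime.coprime_dvd_right hpq hcop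
      have h6 : k ∣ q - 1 := h5.dvd_of_dvd_mul_right h4
      have h7 : k ∣ q + 1 := by
        rw [hc]
        exact Nat.div_dvd_of_dvd (dd_dvd_add (by omega))
      have h8 : k ∣ 2 := by
        have : q + 1 = (q - 1) + 2 := by omega
        rw [this] at h7
        exact (Nat.dvd_add_right h6).1 h7
      have := Nat.le_of_dvd (by norm_num) h8
      omega
    · have h4 : (pr F (A * B * A⁻¹ * B⁻¹)) ^ p = 1 := by
        have := congrArg Subtype.val h3
        rw [map_mul, map_mul, map_mul, map_inv, map_inv]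
        exact this
      rcases tr_of_pow_p (p := p) h4 with h | h
      · exact hc2 h
      · exact hc3 h
  · -- `A₄`
    exfalso
    have h1 := alt_four_order (e a)
    have h2 : ∀ n, (e a) ^ n = 1 → k ∣ n := by
      intro n hn
      rw [← hoa, ← e.orderOf_eq]
      exact orderOf_dvd_of_pow_eq_one hn
    rcases h1 with h | h
    · have := Nat.le_of_dvd (by norm_num) (h2 _ h); omega
    · have := Nat.le_of_dvd (by norm_num) (h2 _ h); omega
  · -- `S₄`
    exfalso
    have h1 := perm_four_order (e a)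
    have h2 : ∀ n, (e a) ^ n = 1 → k ∣ n := by
      intro n hn
      rw [← hoa, ← e.orderOf_eq]
      exact orderOf_dvd_of_pow_eq_one hn
    rcases h1 with h | h | h
    · have := Nat.le_of_dvd (by norm_num) (h2 _ h); omega
    · have := Nat.le_of_dvd (by norm_num) (h2 _ h); omega
    · have := Nat.le_of_dvd (by norm_num) (h2 _ h); omega
  · -- `A₅`
    have h1 := alt_five_order (e a)
    have h2 : ∀ n, (e a) ^ n = 1 → k ∣ n := by
      intro n hn
      rw [← hoa, ← e.orderOf_eq]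
      exact orderOf_dvd_of_pow_eq_one hn
    have h3 : k ≤ 5 := by
      rcases h1 with h | h | h
      · have := Nat.le_of_dvd (by norm_num) (h2 _ h); omega
      · have := Nat.le_of_dvd (by norm_num) (h2 _ h); omega
      · have := Nat.le_of_dvd (by norm_num) (h2 _ h); omega
    have h5 : q = 4 := by
      rcases hk6 with h | h
      · omega
      · exact h.1
    apply Subgroup.eq_top_of_card_eq
    have h6 := PSL2Basic.card_PSL2_gcd (F := F)
    rw [← hqdef, h5] at h6
    have h7 : Nat.gcd 2 (4 - 1) = 1 := rfl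
    rw [h7] at h6
    have h8 : Nat.card H = 60 := by
      rw [Nat.card_congr e.toEquiv, Nat.card_eq_fintype_card]
      rfl
    rw [h8]
    omega
  · -- `PSL₂(K)` or `PGL₂(K)`
    set Q := Fintype.card K with hQ
    have hQ1 : 1 < Q := Fintype.one_lt_card
    obtain ⟨p', hp'⟩ := CharP.exists K
    have hp'p : p'.Prime := CharP.char_is_prime K p'
    have : Fact p'.Prime := ⟨hp'p⟩
    obtain ⟨f', -, hcard'⟩ := FiniteField.card K p'
    have hp'Q : p' ∣ Q := by rw [hQ, hcard']; exact dvd_pow_self _ f'.2.ne'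
    have hm0 : m ≠ 0 := by
      rintro rfl
      rw [pow_zero] at hm
      omega
    have hp'q : p' ∣ q := by
      rw [← hm]
      exact hp'Q.trans (dvd_pow_self _ hm0)
    have hkp' : ¬ k ∣ p' := fun h => hbig p' (Nat.Coprime.coprime_dvd_right hp'q hcop) h
    -- the order of the image of `a`
    have hle : k ≤ Q + 1 := by
      rcases h with ⟨⟨e⟩⟩ | ⟨⟨e⟩⟩
      · obtain ⟨g, hg⟩ := pr_surjective (F := K) (e a)
        have h1 := Cfsg.Agent.H390.PslSpec.order_dvd (p := p') g
        rw [hg, e.orderOf_eq, hoa] at h1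
        rcases h1 with h1 | h1 | h1
        · exact absurd h1 hkp'
        · have h2 : k ∣ Q - 1 := h1.trans (Nat.div_dvd_of_dvd (dd_dvd_sub _))
          have := Nat.le_of_dvd (by omega) h2
          omega
        · have h2 : k ∣ Q + 1 := h1.trans (Nat.div_dvd_of_dvd (dd_dvd_add (by omega)))
          exact Nat.le_of_dvd (by omega) h2
      · obtain ⟨g, hg⟩ := Cfsg.Agent.H368.PGLSpec.pr_surjective (F := K) (e a)
        have h1 := Cfsg.Agent.H368.PGLSpec.order_dvd (p := p') g
        rw [hg] at h1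
        have h0 : orderOf (e a) = k := by rw [← hoa]; exact e.orderOf_eq a
        change orderOf (e a) ∣ p' ∨ orderOf (e a) ∣ Fintype.card K - 1 ∨ orderOf (e a) ∣ Fintype.card K + 1 at h1
        rw [h0] at h1
        rcases h1 with h1 | h1 | h1
        · exact absurd h1 hkp'
        · have := Nat.le_of_dvd (by omega) h1
          omega
        · exact Nat.le_of_dvd (by omega) h1
    have hm1 : m = 1 := by
      by_contra hm1
      have h2 : Q ^ 2 ≤ q := by
        rw [← hm]
        exact Nat.pow_le_pow_right (by omega) (by omega)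
      have h3 : 4 ≤ Q := by omega
      have h4 : Q ^ 2 = Q * Q := sq Q
      have h5 : 4 * Q ≤ Q * Q := Nat.mul_le_mul_right Q h3
      omega
    rw [hm1, pow_one] at hm
    have hF' := PSL2Basic.card_PSL2_gcd (F := F)
    have hK' := PSL2Basic.card_PSL2_gcd (F := K)
    rw [← hQ, hm] at hK'
    rw [← hqdef] at hF'
    have hgpos : 0 < Nat.gcd 2 (q - 1) := Nat.gcd_pos_of_pos_left _ (by norm_num)
    apply Subgroup.eq_top_of_card_eq
    rcases h with ⟨⟨e⟩⟩ | ⟨⟨e⟩⟩
    · rw [Nat.card_congr e.toEquiv]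
      exact Nat.eq_of_mul_eq_mul_right hgpos (hK'.trans hF'.symm)
    · have h1 : Nat.card H = q * (q ^ 2 - 1) := by
        rw [Nat.card_congr e.toEquiv, PSL2Basic.card_PGL2, ← hQ, hm]
      have h2 : Nat.card H ≤ Nat.card (Matrix.ProjectiveSpecialLinearGroup (Fin 2) F) :=
        Nat.card_le_card_of_injective _ H.subtype_injective
      have h3 : Nat.card (Matrix.ProjectiveSpecialLinearGroup (Fin 2) F) ≤ q * (q ^ 2 - 1) := by
        rw [← hF']
        exact Nat.le_mul_of_pos_right _ hgpos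
      omega

end

end Cfsg.Agent.H915.Gs
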