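import Cfsg.Agent.H915.Gs.WSmall

/-!
# A subgroup of `SL(2,q²)` which contains `SL(2,q)` and another element `u t * l x` (helper915), S4327
-/

set_option autoImplicit false

namespace Cfsg.Agent.H915.Gs

open Matrix Cfsg.Agent.LieClassical.SLTwoUnipotent Cfsg.Agent.H390.PslSpec Cfsg.Agent.ClassicalGeometry

/-- `SL(2,q)` together with an element `u t * l x`, `t` not in the subfield, generates `SL(2,q²)` -/
theorem sub_gen {K F : Type*} [Field K] [Fintype K] [Field F] [Fintype F] (ι : K →+* F)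
    (hcard : Fintype.card K ^ 2 = Fintype.card F) (h4 : 4 ≤ Fintype.card K)
    {X : Subgroup (SpecialLinearGroup (Fin 2) F)}
    (hX : ∀ A : SpecialLinearGroup (Fin 2) K, SpecialLinearGroup.map ι A ∈ X) {t x : F} (ht : ∀ y, ι y ≠ t)
    (hh : u t * l x ∈ X) : X = ⊤ := by
  classical
  obtain ⟨p, hcp⟩ := CharP.exists F
  have hp : p.Prime := CharP.char_is_prime F p
  have : Fact p.Prime := ⟨hp⟩
  set Q := Fintype.card K with hQ
  set q := Fintype.card F with hq
  have hq4 : 4 ≤ q := by rw [← hcard]; nlinarith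
  apply eq_top_of_map hq4
  set H := X.map (pr F) with hH
  let f : Matrix.ProjectiveSpecialLinearGroup (Fin 2) K →* H :=
    (PSL2Basic.pslMap (n := Fin 2) ι).codRestrict H (by
      intro g
      obtain ⟨A, rfl⟩ := pr_surjective (F := K) g
      exact ⟨_, hX A, rfl⟩)
  have hf : Function.Injective f := fun a b h =>
    PSL2Basic.pslMap_injective ι (congrArg Subtype.val h)
  have hns : ¬ Group.IsSolvable H := fun h =>
    PSL2Solvable.not_isSolvable_psl K h4 (Group.isSolvable_of_isSolvable_injective hf)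
  have hcardle : Nat.card (Matrix.ProjectiveSpecialLinearGroup (Fin 2) K) ≤ Nat.card H :=
    Nat.card_le_card_of_injective f hf
  have hK := PSL2Basic.card_PSL2_gcd (F := K)
  have hF := PSL2Basic.card_PSL2_gcd (F := F)
  rw [← hQ] at hK
  rw [← hq] at hF
  have hg2 : Nat.gcd 2 (Q - 1) ≤ 2 := Nat.gcd_le_left _ (by norm_num)
  have hgpos : 0 < Nat.gcd 2 (q - 1) := Nat.gcd_pos_of_pos_left _ (by norm_num)
  have h60 : 60 ≤ Nat.card (Matrix.ProjectiveSpecialLinearGroup (Fin 2) K) := by
    rcases Nat.lt_or_ge Q 5 with h | h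
    · have h5 : Q = 4 := by omega
      rw [h5] at hK
      have : Nat.gcd 2 (4 - 1) = 1 := rfl
      rw [this] at hK
      omega
    · have h1 : 5 * (5 ^ 2 - 1) ≤ Q * (Q ^ 2 - 1) :=
        Nat.mul_le_mul h (Nat.sub_le_sub_right (Nat.pow_le_pow_left h 2) 1)
      rw [← hK] at h1
      have h2 : Nat.card (Matrix.ProjectiveSpecialLinearGroup (Fin 2) K) * Nat.gcd 2 (Q - 1) ≤
          Nat.card (Matrix.ProjectiveSpecialLinearGroup (Fin 2) K) * 2 := Nat.mul_le_mul_left _ hg2
      omega
  -- the case of index at most 2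
  have key : Nat.card H ≤ 2 * Nat.card (Matrix.ProjectiveSpecialLinearGroup (Fin 2) K) → H = ⊤ := by
    intro hle
    exfalso
    have hr : Nat.card f.range = Nat.card (Matrix.ProjectiveSpecialLinearGroup (Fin 2) K) :=
      (Nat.card_congr (Equiv.ofInjective f hf)).symm
    have hidx := f.range.card_mul_index
    rw [hr] at hidx
    have hi2 : f.range.index ≤ 2 := by
      by_contra hcon
      push Not at hcon
      have h1 : Nat.card (Matrix.ProjectiveSpecialLinearGroup (Fin 2) K) * 3 ≤
          Nat.card (Matrix.ProjectiveSpecialLinearGroup (Fin 2) K) * f.range.index := Nat.mul_le_mul_left _ hcon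
      omega
    have hi0 : f.range.index ≠ 0 := Subgroup.index_ne_zero_of_finite
    have hnorm : f.range.Normal := by
      have h12 : f.range.index = 1 ∨ f.range.index = 2 := by omega
      rcases h12 with h | h
      · rw [Subgroup.index_eq_one] at h
        rw [h]
        infer_instance
      · exact Subgroup.normal_of_index_eq_two h
    let h : H := ⟨pr F (u t * l x), ⟨_, hh, rfl⟩⟩
    have h1 : h * f (pr K (l 1)) * h⁻¹ ∈ f.range := hnorm.conj_mem _ ⟨_, rfl⟩ h
    obtain ⟨g, hg⟩ := h1
    obtain ⟨A, rfl⟩ := pr_surjective (F := K) g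
    have h2 : pr F (SpecialLinearGroup.map ι A) = pr F (u t * l x * SpecialLinearGroup.map ι (l 1) * (u t * l x)⁻¹) := by
      have := congrArg Subtype.val hg
      rw [map_mul, map_mul, map_inv]
      exact this
    have h3 : pr F (SpecialLinearGroup.map ι A * (u t * l x * SpecialLinearGroup.map ι (l 1) * (u t * l x)⁻¹)⁻¹) = 1 := by
      rw [map_mul, map_inv, h2, mul_inv_cancel]
    rw [pr_eq_one_iff] at h3
    set B : SpecialLinearGroup (Fin 2) F := u t * l x * SpecialLinearGroup.map ι (l 1) * (u t * l x)⁻¹ with hB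
    have hBe : B = u t * l 1 * u (-t) := by
      have e1 : SpecialLinearGroup.map ι (l (1 : K)) = l (1 : F) := by
        apply ext_coe
        change (l (1 : K)).1.map ι = _
        rw [coe_l, coe_l]
        ext i j
        fin_cases i <;> fin_cases j <;> simp
      rw [hB, e1, _root_.mul_inv_rev, ← u_neg, ← l_neg]
      have e2 : u t * l x * l 1 * (l (-x) * u (-t)) = u t * (l x * l 1 * l (-x)) * u (-t) := by group
      rw [e2, ← l_add, ← l_add]
      congr 3
      ring
    have hB00 : B.1 0 0 = 1 + t := by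
      rw [hBe, coe_mul, coe_mul, coe_u, coe_u, coe_l]
      simp [Matrix.mul_apply, Fin.sum_univ_two]
    have hAB : ((SpecialLinearGroup.map ι A : SpecialLinearGroup (Fin 2) F) : Matrix (Fin 2) (Fin 2) F) =
        (SpecialLinearGroup.map ι A * B⁻¹ : SpecialLinearGroup (Fin 2) F) * B.1 := by
      rw [← coe_mul, inv_mul_cancel_right]
    have hA00 : ι (A.1 0 0) = ((SpecialLinearGroup.map ι A : SpecialLinearGroup (Fin 2) F) :
      Matrix (Fin 2) (Fin 2) F) 0 0 := rfl
    rcases h3 with h3 | h3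
    · rw [h3, Matrix.one_mul] at hAB
      rw [hAB, hB00] at hA00
      apply ht (A.1 0 0 - 1)
      rw [map_sub, map_one, hA00]
      ring
    · rw [h3, Matrix.neg_mul, Matrix.one_mul] at hAB
      rw [hAB, Matrix.neg_apply, hB00] at hA00
      apply ht (-(A.1 0 0) - 1)
      rw [map_sub, map_neg, map_one, hA00]
      ring
  rcases Cfsg.Agent.S0799.result (q := q) rfl p H with ⟨k', -, ⟨hcyc, -⟩ | ⟨⟨e⟩⟩⟩ | ⟨P, K', hK', ⟨e⟩⟩ | ⟨⟨e⟩⟩ | ⟨⟨e⟩⟩ |
    ⟨⟨e⟩⟩ | ⟨K', i1, i2, m, hm, h⟩
  · exfalso
    apply hns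
    apply Group.isSolvable_of_comm
    intro a b
    obtain ⟨g, hg⟩ := hcyc.exists_generator
    obtain ⟨i, hi⟩ := hg a
    obtain ⟨j, hj⟩ := hg b
    rw [← hi, ← hj]
    exact (zpow_add g i j).symm.trans ((congrArg (g ^ ·) (add_comm i j)).trans (zpow_add g j i))
  · exfalso
    have := PSL2Solvable.isSolvable_dihedral k'
    exact hns (Group.isSolvable_of_isSolvable_injective (f := e.toMonoidHom) e.injective)
  · exfalso
    have := PSL2Solvable.isSolvable_of_le_normalizer p P K' hK'
    exact hns (Group.isSolvable_of_isSolvable_injective (f := e.toMonoidHom) e.injective)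
  · exfalso
    have h1 : Nat.card H = 12 := by
      rw [Nat.card_congr e.toEquiv, Nat.card_eq_fintype_card]; rfl
    omega
  · exfalso
    have h1 : Nat.card H = 24 := by
      rw [Nat.card_congr e.toEquiv, Nat.card_eq_fintype_card]; rfl
    omega
  · apply key
    have h1 : Nat.card H = 60 := by
      rw [Nat.card_congr e.toEquiv, Nat.card_eq_fintype_card]; rfl
    omega
  · set Q' := Fintype.card K' with hQ'
    have hQ1 : 1 < Q' := Fintype.one_lt_card
    have hK'' := PSL2Basic.card_PSL2_gcd (F := K')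
    rw [← hQ'] at hK''
    have hg' : 0 < Nat.gcd 2 (Q' - 1) := Nat.gcd_pos_of_pos_left _ (by norm_num)
    have hcle : Nat.card H ≤ Q' * (Q' ^ 2 - 1) := by
      rcases h with ⟨⟨e⟩⟩ | ⟨⟨e⟩⟩
      · rw [Nat.card_congr e.toEquiv, ← hK'']
        exact Nat.le_mul_of_pos_right _ hg'
      · rw [Nat.card_congr e.toEquiv, PSL2Basic.card_PGL2]
    have hm0 : m ≠ 0 := by
      rintro rfl
      rw [pow_zero] at hm
      omega
    by_cases hm1 : m = 1
    · rw [hm1, pow_one] at hm
      apply Subgroup.eq_top_of_card_eq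
      rcases h with ⟨⟨e⟩⟩ | ⟨⟨e⟩⟩
      · rw [Nat.card_congr e.toEquiv]
        rw [hm] at hK''
        exact Nat.eq_of_mul_eq_mul_right hgpos (hK''.trans hF.symm)
      · have h1 : Nat.card H = q * (q ^ 2 - 1) := by
          rw [Nat.card_congr e.toEquiv, PSL2Basic.card_PGL2, ← hQ', hm]
        have h2 : Nat.card H ≤ Nat.card (Matrix.ProjectiveSpecialLinearGroup (Fin 2) F) :=
          Nat.card_le_card_of_injective _ H.subtype_injective
        have h3 : Nat.card (Matrix.ProjectiveSpecialLinearGroup (Fin 2) F) ≤ q * (q ^ 2 - 1) := by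
          rw [← hF]
          exact Nat.le_mul_of_pos_right _ hgpos
        omega
    · apply key
      have hQQ : Q' ≤ Q := by
        by_contra hcon
        push Not at hcon
        have h1 : Q ^ 2 < Q' ^ 2 := Nat.pow_lt_pow_left hcon (by norm_num)
        have h2 : Q' ^ 2 ≤ Q' ^ m := Nat.pow_le_pow_right (by omega) (by omega)
        rw [hm, ← hcard] at h2
        omega
      have h1 : Q' * (Q' ^ 2 - 1) ≤ Q * (Q ^ 2 - 1) :=
        Nat.mul_le_mul hQQ (Nat.sub_le_sub_right (Nat.pow_le_pow_left hQQ 2) 1)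
      rw [← hK] at h1
      have h2 : Nat.card (Matrix.ProjectiveSpecialLinearGroup (Fin 2) K) * Nat.gcd 2 (Q - 1) ≤
          Nat.card (Matrix.ProjectiveSpecialLinearGroup (Fin 2) K) * 2 := Nat.mul_le_mul_left _ hg2
      omega

end Cfsg.Agent.H915.Gs
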